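import Cfsg.Agent.Lib.ONTable.Data
import Cfsg.Agent.Lib.InvCoset.Orbits

/-!
# The rows fixed by `f`
-/

set_option autoImplicit false
set_option maxHeartbeats 0
set_option maxRecDepth 100000

noncomputable section

namespace Cfsg.Agent.ONType.Side

open Cfsg.Agent.InvCoset

/-- How many rows of an interval are fixed by the sixth letter. -/
def fixNum : ℕ → ℕ → ℕ
  | _, 0 => 0
  | a, n + 1 => cond (Nat.beq (ONTable.table.tgt a 5) a) (Nat.succ (fixNum (Nat.succ a) n)) (fixNum (Nat.succ a) n)

theorem fixNum_eq : ∀ n a, fixNum a n = ((Finset.Ico a (a + n)).filter fun c => ONTable.table.tgt c 5 = c).card := by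
  intro n
  induction n with
  | zero => intro a; simp [fixNum]
  | succ n ih =>
    intro a
    rw [fixNum, ih, show a + (n + 1) = a + 1 + n by omega,
      ← Finset.insert_Ico_succ_left_eq_Ico (show a < a + 1 + n by omega), Finset.filter_insert]
    cases h : Nat.beq (ONTable.table.tgt a 5) a
    · rw [if_neg (fun e => by rw [e] at h; simp at h), cond_false]; rfl
    · rw [if_pos (Nat.eq_of_beq_eq_true h), cond_true, Finset.card_insert_of_notMem (by simp)]; rfl

theorem fixNum_add (a m n : ℕ) : fixNum a (m + n) = fixNum a m + fixNum (a + m) n := by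
  rw [fixNum_eq, fixNum_eq, fixNum_eq, ← add_assoc,
    ← Finset.Ico_union_Ico_eq_Ico (Nat.le_add_right a m) (Nat.le_add_right (a + m) n), Finset.filter_union,
    Finset.card_union_of_disjoint (Finset.disjoint_filter_filter (Finset.Ico_disjoint_Ico_consecutive a (a + m) _))]

theorem fix_part0 : fixNum 0 15345 = 344 := by decide +kernel
theorem fix_part1 : fixNum 15345 15345 = 0 := by decide +kernel
theorem fix_part2 : fixNum 30690 15345 = 16 := by decide +kernel
theorem fix_part3 : fixNum 46035 15345 = 0 := by decide +kernel
theorem fix_part4 : fixNum 61380 15345 = 0 := by decide +kernel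
theorem fix_part5 : fixNum 76725 15345 = 0 := by decide +kernel
theorem fix_part6 : fixNum 92070 15345 = 0 := by decide +kernel
theorem fix_part7 : fixNum 107415 15345 = 0 := by decide +kernel

theorem fix_step (a n : ℕ) {s k : ℕ} (h : fixNum 0 a = s) (h' : fixNum a n = k) : fixNum 0 (a + n) = s + k := by
  rw [fixNum_add, h, Nat.zero_add, h']

theorem fix_count : ((Finset.range 122760).filter fun c => ONTable.table.tgt c 5 = c).card = 360 := by
  rw [Finset.range_eq_Ico, show Finset.Ico 0 122760 = Finset.Ico 0 (0 + 122760) from rfl, ← fixNum_eq]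
  exact fix_step 107415 15345 (fix_step 92070 15345 (fix_step 76725 15345 (fix_step 61380 15345 (fix_step 46035 15345
    (fix_step 30690 15345 (fix_step 15345 15345 fix_part0 fix_part1) fix_part2) fix_part3) fix_part4) fix_part5)
    fix_part6) fix_part7

end Cfsg.Agent.ONType.Side
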