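import Cfsg.Agent.Lib.ONType.Side.SylowCheck

/-!
# The presented O'Nan group has one class of involutions
-/

set_option autoImplicit false
set_option maxRecDepth 100000

noncomputable section

namespace Cfsg.Agent.ONType.Side

open Cfsg.Spor Cfsg.Agent.InvCoset Cfsg.Agent.ONGroup

theorem lnth_getElem : ∀ (l : List (List ℕ)) {n : ℕ} (h : n < l.length), lnth l n = l[n]
  | [], n, h => absurd h (Nat.not_lt_zero _)
  | w :: l, 0, h => rfl
  | w :: l, n + 1, h => lnth_getElem l (Nat.lt_of_succ_lt_succ h)

theorem sylWord_mem {i : ℕ} (h : i < 512) :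
    ∃ r ∈ sylAll, r.1 = sylWord i ∧ rowOK r = true := by
  have hl : i < sylAll.length := by rw [sylAll_length]; exact h
  refine ⟨sylAll[i], List.getElem_mem hl, ?_, List.all_eq_true.mp sylAll_ok _ (List.getElem_mem hl)⟩
  rw [sylWord, lnth_getElem _ (by rw [List.length_map]; exact hl), List.getElem_map]

theorem sylWord_range {i : ℕ} (h : i < 512) : ∀ y ∈ sylWord i, y < 8 := by
  obtain ⟨r, -, hr, hok⟩ := sylWord_mem h
  simp only [rowOK, Bool.and_eq_true] at hok
  rw [← hr]
  exact inRange_spec hok.1.1

/-- The value of the element with a given index. -/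
def sylVal (i : ℕ) : ON := prodE let8 (sylWord i)

theorem nextsOK_spec {w : List ℕ} : ∀ {gs : List (List ℕ)} {ns : List ℕ}, nextsOK w gs ns = true →
    ∀ g ∈ gs, ∃ n < 512, prodE let8 w * prodE let8 g = sylVal n
  | [], _, _, g, hg => by simp at hg
  | _ :: _, [], h, _, _ => by simp [nextsOK] at h
  | a :: gs, n :: ns, h, g, hg => by
    simp only [nextsOK, Bool.and_eq_true] at h
    rcases List.mem_cons.mp hg with rfl | hg
    · have hn : n < 512 := by simpa [Nat.blt] using h.1.1
      refine ⟨n, hn, ?_⟩
      have e := word_one h.1.2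
      rw [prodE_append, prodE_append, prodE_invW let8_paired _ (sylWord_range hn), ← mul_assoc] at e
      exact mul_inv_eq_one.1 e
    · exact nextsOK_spec h.2 g hg

theorem syl_step {i : ℕ} (h : i < 512) : ∀ g ∈ sylGens, ∃ n < 512, sylVal i * prodE let8 g = sylVal n := by
  obtain ⟨r, -, hr, hok⟩ := sylWord_mem h
  simp only [rowOK, Bool.and_eq_true] at hok
  intro g hg
  obtain ⟨n, hn, e⟩ := nextsOK_spec hok.1.2 g hg
  exact ⟨n, hn, by rw [sylVal, ← hr]; exact e⟩

/-- The Sylow subgroup as the set of its table. -/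
def sylSet : Set ON := {x | ∃ i < 512, x = sylVal i}

theorem sylVal_one : sylVal sylOne = 1 := word_one sylOne_ok

theorem finite_sylSet : sylSet.Finite :=
  ((Set.finite_lt_nat 512).image sylVal).subset (by rintro x ⟨i, hi, rfl⟩; exact ⟨i, hi, rfl⟩)

/-- The subgroup. -/
def sylP : Subgroup ON := Subgroup.closure (prodE let8 '' {g | g ∈ sylGens})

theorem sylP_sub : (sylP : Set ON) ⊆ sylSet := by
  intro x hx
  suffices ∀ y ∈ sylSet, y * x ∈ sylSet by
    simpa using this 1 ⟨sylOne, sylOne_lt, sylVal_one.symm⟩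
  induction hx using Subgroup.closure_induction with
  | mem z hz =>
    obtain ⟨g, hg, rfl⟩ := hz
    rintro y ⟨i, hi, rfl⟩
    exact syl_step hi g hg
  | one => intro y hy; rwa [mul_one]
  | mul a b _ _ iha ihb => intro y hy; rw [← mul_assoc]; exact ihb _ (iha _ hy)
  | inv a _ iha =>
    intro y hy
    haveI := finite_sylSet.to_subtype
    have hinj : Function.Injective (fun z : sylSet => (⟨(z : ON) * a, iha _ z.2⟩ : sylSet)) :=
      fun p q h => Subtype.ext (mul_right_cancel (congrArg Subtype.val h))
    obtain ⟨z, hz⟩ := (Finite.injective_iff_surjective.1 hinj) ⟨y, hy⟩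
    have : y * a⁻¹ = (z : ON) := by
      rw [← show (z : ON) * a = y from congrArg Subtype.val hz, mul_inv_cancel_right]
    rw [this]
    exact z.2

/-- Whether a word is a concatenation of the generators. -/
def splitG : ℕ → List ℕ → Bool
  | 0, w => lbeq w []
  | n + 1, w => lbeq w [] || sylGens.any (fun g => lbeq (w.take g.length) g && splitG n (w.drop g.length))

theorem splitG_spec : ∀ n w, splitG n w = true → prodE let8 w ∈ sylP
  | 0, w, h => by rw [lbeq_iff h]; exact one_mem _
  | n + 1, w, h => by
    simp only [splitG, Bool.or_eq_true, List.any_eq_true, Bool.and_eq_true] at h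
    rcases h with h | ⟨g, hg, h1, h2⟩
    · rw [lbeq_iff h]; exact one_mem _
    · rw [← List.take_append_drop g.length w, prodE_append, lbeq_iff h1]
      exact mul_mem (Subgroup.subset_closure ⟨g, hg, rfl⟩) (splitG_spec n _ h2)

theorem split_ok : sylAll.all (fun r => splitG 40 r.1) = true := by decide +kernel

theorem sylVal_mem {i : ℕ} (h : i < 512) : sylVal i ∈ sylP := by
  obtain ⟨r, hr, e, -⟩ := sylWord_mem h
  rw [sylVal, ← e]
  exact splitG_spec _ _ (List.all_eq_true.mp split_ok r hr)

theorem runW_eq {v w : List ℕ} (hv : ∀ y ∈ v, y < 8) (hw : ∀ y ∈ w, y < 8)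
    (h : prodE let8 v = prodE let8 w) (c : Row) : ONTable.table.runW v c = ONTable.table.runW w c := by
  have e : ∀ u : List ℕ, (∀ y ∈ u, y < 8) →
      ONTable.table.runW u c = (((act122760 (prodE let8 u))⁻¹ c : Row) : ℕ) := by
    intro u hu
    rw [map_prodE_permE certified let8 act122760 act_letter u hu, ← Equiv.Perm.smul_def, ← actW_eq,
      actW_permE certified u hu c]
  rw [e v hv, e w hw, h]

theorem rowKey_eq {v w : List ℕ} (hv : ∀ y ∈ v, y < 8) (hw : ∀ y ∈ w, y < 8)
    (h : prodE let8 v = prodE let8 w) : rowKey v = rowKey w := by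
  have h0 : ONTable.table.runW v 0 = ONTable.table.runW w 0 := runW_eq hv hw h row0
  have h1 : ONTable.table.runW v 3 = ONTable.table.runW w 3 := runW_eq hv hw h row1
  have h2 : ONTable.table.runW v 113129 = ONTable.table.runW w 113129 := runW_eq hv hw h row2
  simp only [rowKey, h0, h1, h2]

theorem incr_spec : ∀ {a : ℕ} {l : List ℕ}, incr a l = true → (a :: l).Pairwise (· < ·)
  | a, [], _ => List.pairwise_singleton _ _
  | a, k :: l, h => by
    simp only [incr, Bool.and_eq_true] at h
    have hak : a < k := by simpa [Nat.blt] using h.1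
    have ih := incr_spec h.2
    refine List.pairwise_cons.2 ⟨fun x hx => ?_, ih⟩
    rcases List.mem_cons.mp hx with rfl | hx
    · exact hak
    · exact hak.trans (List.rel_of_pairwise_cons ih hx)

theorem incr_inj {α : Type*} (L : List α) (f : α → ℕ) (h : incr 0 (L.map f) = true) {i j : ℕ} (hi : i < L.length)
    (hj : j < L.length) (e : f L[i] = f L[j]) : i = j := by
  have hnd : (L.map f).Nodup := ((incr_spec h).tail).imp (fun h => ne_of_lt h)
  exact (hnd.getElem_inj_iff (hi := by rw [List.length_map]; exact hi) (hj := by rw [List.length_map]; exact hj)).1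
    (by simpa only [List.getElem_map] using e)

theorem sylVal_inj {i j : ℕ} (hi : i < 512) (hj : j < 512) (h : sylVal i = sylVal j) : i = j := by
  have hl : ∀ k < 512, k < sylAll.length := fun k hk => by rw [sylAll_length]; exact hk
  have e : rowKey (sylWord i) = rowKey (sylWord j) := rowKey_eq (sylWord_range hi) (sylWord_range hj) h
  have hw : ∀ k, (hk : k < 512) → sylWord k = (sylAll[k]'(hl k hk)).1 := fun k hk => by
    rw [sylWord, lnth_getElem _ (by rw [List.length_map]; exact hl k hk), List.getElem_map]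
  rw [hw i hi, hw j hj] at e
  exact incr_inj sylAll (fun r => rowKey r.1 + 1) keys_incr (hl i hi) (hl j hj) (by show _ + 1 = _ + 1; rw [e])

theorem sylP_card : Nat.card sylP = 2 ^ 9 := by
  let f : Fin 512 → sylP := fun i => ⟨sylVal i, sylVal_mem i.2⟩
  have hb : Function.Bijective f := by
    refine ⟨fun i j h => Fin.ext (sylVal_inj i.2 j.2 (congrArg Subtype.val h)), fun x => ?_⟩
    obtain ⟨i, hi, e⟩ := sylP_sub x.2
    exact ⟨⟨i, hi⟩, Subtype.ext e.symm⟩
  rw [← Nat.card_congr (Equiv.ofBijective f hb), Nat.card_fin]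
  norm_num

theorem invOK_spec {w u : List ℕ} (hw : ∀ y ∈ w, y < 8) (h : invOK w u = true)
    (hord : orderOf (prodE let8 w) = 2) : IsConj (let8 5) (prodE let8 w) := by
  simp only [invOK, Bool.or_eq_true, Bool.and_eq_true, Bool.not_eq_true'] at h
  rcases h with (h | ⟨hr, h⟩) | ⟨hu, h⟩
  · exfalso
    rw [word_one h, orderOf_one] at hord
    norm_num at hord
  · exfalso
    have h1 : prodE let8 (w ++ w) = prodE let8 [] := by
      rw [prodE_append, ← pow_two, ← hord, pow_orderOf_eq_one]; rfl
    have e := fun c : Row => runW_eq (inRange_spec hr) (by simp) h1 c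
    have h0 : ONTable.table.runW (w ++ w) 0 = 0 := e row0
    have h3 : ONTable.table.runW (w ++ w) 3 = 3 := e row1
    have h4 : ONTable.table.runW (w ++ w) 113129 = 113129 := e row2
    simp [fixesThree, hr, h0, h3, h4] at h
  · have hu' := inRange_spec hu
    have e := word_one h
    rw [prodE_append, prodE_append, prodE_append, prodE_invW let8_paired u hu',
      prodE_invW let8_paired w hw] at e
    simp only [prodE, mul_one] at e
    refine isConj_iff.2 ⟨prodE let8 u, ?_⟩
    rw [← mul_inv_eq_one, ← e]
    group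

theorem f_conj_all {t : ON} (ht : orderOf t = 2) : IsConj (let8 5) t := by
  haveI := ONGroup.finite_ON
  haveI : Fact (Nat.Prime 2) := ⟨Nat.prime_two⟩
  have hv : (Nat.card ON).factorization 2 = 9 := by
    rw [card_ON, show (460815505920 : ℕ) = 2 ^ 9 * 900030285 by norm_num,
      Nat.factorization_mul (by norm_num) (by norm_num), Nat.Prime.factorization_pow Nat.prime_two]
    simp [Nat.factorization_eq_zero_of_not_dvd (show ¬ 2 ∣ 900030285 by norm_num)]
  let P : Sylow 2 ON := Sylow.ofCard sylP (by rw [sylP_card, hv])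
  obtain ⟨Q, hQ⟩ := (IsPGroup.of_card (G := Subgroup.zpowers t) (p := 2) (n := 1)
    (by rw [Nat.card_zpowers, ht]; norm_num)).exists_le_sylow
  obtain ⟨g, hg⟩ := MulAction.exists_smul_eq ON Q P
  have hmem : g * t * g⁻¹ ∈ sylP := by
    have h1 : MulAut.conj g • t ∈ ((g • Q : Sylow 2 ON) : Subgroup ON) :=
      Subgroup.smul_mem_pointwise_smul t (MulAut.conj g) Q (hQ (Subgroup.mem_zpowers t))
    rw [hg] at h1
    exact h1
  obtain ⟨i, hi, e⟩ := sylP_sub hmem
  obtain ⟨r, -, er, hok⟩ := sylWord_mem hi
  simp only [rowOK, Bool.and_eq_true] at hok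
  rw [er] at hok
  have hc := invOK_spec (sylWord_range hi) hok.2 (by
    show orderOf (sylVal i) = 2
    rw [← e, ← MulAut.conj_apply]
    exact (orderOf_injective (MulAut.conj g).toMonoidHom (MulAut.conj g).injective t).trans ht)
  rw [show prodE let8 (sylWord i) = g * t * g⁻¹ from e.symm] at hc
  exact hc.trans (isConj_iff.2 ⟨g⁻¹, by group⟩)

/-- All involutions are conjugate. -/
theorem involutions_conj {s t : ON} (hs : orderOf s = 2) (ht : orderOf t = 2) : IsConj s t :=
  (f_conj_all hs).symm.trans (f_conj_all ht)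

end Cfsg.Agent.ONType.Side
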