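import Cfsg.Agent.Lib.ONType.Side.Outer

/-!
# The structure of the subgroup `<a,b,c,d,f,g>` of the presented O'Nan group

It has order 161280, centralises `f`, and has a perfect subgroup of index two with cyclic centre of order four,
containing its centraliser, with central quotient `PSL(3,4)`.
-/

set_option autoImplicit false
set_option maxRecDepth 100000
set_option linter.unusedSectionVars false

noncomputable section

namespace Cfsg.Agent.ONType.Side

open Cfsg.Spor Cfsg.Agent.InvCoset Cfsg.Agent.ONGroup Cfsg.Agent.L34Mult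
open scoped commutatorElement

/-- The subgroup `<a,b,c,d,f,g>`. -/
def Kf : Subgroup ON := spanL let8 sevenL

theorem small_Kf : Small Kf 161280 := small_K let8 let8_paired wordsK_ON

theorem let8_seven {x : ℕ} (h : x ∈ sevenL) : let8 x ∈ Kf := mem_spanL _ h

theorem word_Kf : ∀ {w : List ℕ}, (∀ y ∈ w, y ∈ sevenL) → prodE let8 w ∈ Kf
  | [], _ => one_mem _
  | y :: w, h => mul_mem (let8_seven (h y List.mem_cons_self)) (word_Kf fun z hz => h z (List.mem_cons_of_mem _ hz))

/-- The element of order four. -/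
def zW : List ℕ := [0, 6, 3, 6, 3]

theorem runW_of_one {w : List ℕ} (hr : ∀ y ∈ w, y < 8) (h : prodE let8 w = 1) (c : Row) :
    ONTable.table.runW w c = c := by
  have h1 : (prodE (permE certified) w) = 1 := by
    rw [← map_prodE_permE certified let8 act122760 act_letter w hr, h, map_one]
  have h2 := actW_permE certified w hr c
  rw [actW_eq, h1, inv_one, one_smul] at h2
  exact h2.symm

theorem word_ne_one {w : List ℕ}
    (h : (inRange 8 w && !(Nat.beq (ONTable.table.runW w 113129) 113129)) = true) : prodE let8 w ≠ 1 := by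
  simp only [Bool.and_eq_true, Bool.not_eq_true'] at h
  intro h1
  have h2 : ONTable.table.runW w 113129 = 113129 := runW_of_one (inRange_spec h.1) h1 row2
  have h3 : Nat.beq (ONTable.table.runW w 113129) 113129 = true := by rw [h2]; exact Nat.beq_refl _
  rw [h3] at h
  exact Bool.noConfusion h.2

theorem f_ne_one : let8 5 ≠ 1 := fun h =>
  word_ne_one (w := [5]) (by decide +kernel) (by rw [prodE, prodE, mul_one, h])

theorem ab_ne_one : prodE let8 [0, 1] ≠ 1 := word_ne_one (by decide +kernel)

/-- A word. -/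
def U1 : List ℕ := [1, 0, 2, 1]

/-- A word. -/
def V1 : List ℕ := [3, 7, 2]

/-- A word. -/
def U2 : List ℕ := [0, 2, 1, 3, 6]

/-- A word. -/
def V2 : List ℕ := [1, 6, 2, 3]

theorem f_order : orderOf (let8 5) = 2 :=
  orderOf_eq_prime (by rw [sq]; exact gen_invol _ (by decide)) f_ne_one

/-- `Kf` centralises `f`. -/
theorem Kf_le_cent : Kf ≤ Subgroup.centralizer {let8 5} := by
  unfold Kf spanL
  rw [Subgroup.closure_le]
  rintro _ ⟨x, hx, rfl⟩
  rw [SetLike.mem_coe, Subgroup.mem_centralizer_singleton_iff]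
  have hi := let8_paired.inv x (by revert hx; simp [sevenL]; omega)
  have key : ∀ y ∈ sevenL, fixesThree [y, 5, ivL ONTable.iv y, 5] = true := by decide +kernel
  have h := word_one (key x hx)
  simp only [prodE, mul_one, hi] at h
  have h5 : (let8 5)⁻¹ = let8 5 := inv_eq_of_mul_eq_one_right (gen_invol _ (by decide))
  calc let8 x * let8 5 = let8 x * (let8 5 * ((let8 x)⁻¹ * let8 5)) * ((let8 5)⁻¹ * let8 x) := by group
    _ = let8 5 * let8 x := by rw [h, one_mul, h5]

theorem z_sq : prodE let8 zW * prodE let8 zW = let8 5 := by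
  have h := word_one (w := zW ++ zW ++ [5]) (by decide +kernel)
  rw [prodE_append, prodE_append, prodE, prodE, mul_one] at h
  rw [eq_inv_of_mul_eq_one_left h]
  exact inv_eq_of_mul_eq_one_right (gen_invol _ (by decide))

theorem z_order : orderOf (prodE let8 zW) = 4 := by
  have h2 : (prodE let8 zW) ^ 2 = let8 5 := by rw [sq, z_sq]
  have h5 : let8 5 * let8 5 = 1 := gen_invol _ (by decide)
  rw [show (4 : ℕ) = 2 ^ (1 + 1) by norm_num]
  refine orderOf_eq_prime_pow ?_ ?_
  · rw [pow_one, h2]; exact f_ne_one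
  · rw [show (2 : ℕ) ^ (1 + 1) = 2 * 2 by norm_num, pow_mul, h2, sq, h5]

theorem twelve_dvd : 12 ∣ Nat.card Kf := by
  haveI := small_Kf.1
  have o3 : orderOf (prodE let8 [0, 1]) = 3 := by
    refine orderOf_eq_prime ?_ ab_ne_one
    rw [← flatten_prodE]
    exact word_one (by decide +kernel)
  have h3 := Subgroup.orderOf_dvd_natCard Kf (word_Kf (w := [0, 1]) (by decide))
  have h4 := Subgroup.orderOf_dvd_natCard Kf (word_Kf (w := zW) (by decide))
  rw [o3] at h3
  rw [z_order] at h4
  omega

universe u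

variable {F : Type u} [Field F] [Fintype F] (W : Frame F)

include W in
theorem card_frame : Fintype.card F = 4 := by
  have hinj : Function.Injective (val4 W) := by
    intro a b h
    have h1 : W.w + 1 ≠ 0 := fun e => W.ne_one (by linear_combination e - W.two)
    fin_cases a <;> fin_cases b <;> simp [val4, W.ne_zero, W.ne_one, Ne.symm W.ne_zero, Ne.symm W.ne_one, h1, Ne.symm h1] at h ⊢
  have hs : Function.Surjective (val4 W) := fun x => by
    rcases W.cases x with rfl | rfl | rfl | rfl
    exacts [⟨0, rfl⟩, ⟨1, rfl⟩, ⟨2, rfl⟩, ⟨3, rfl⟩]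
  rw [← Fintype.card_of_bijective ⟨hinj, hs⟩, Fintype.card_fin]

/-- The pairs. -/
def both (x : ℕ) : ON × Img W := (let8 x, xE W x)

theorem both_fst (w : List ℕ) : (prodE (both W) w).1 = prodE let8 w :=
  map_prodE (both W) (MonoidHom.fst ON (Img W)) w

theorem both_snd (w : List ℕ) : (prodE (both W) w).2 = prodE (xE W) w :=
  map_prodE (both W) (MonoidHom.snd ON (Img W)) w

theorem both_paired : Paired 8 ONTable.iv (both W) :=
  ⟨let8_paired.lt, fun x hx => Prod.ext (let8_paired.inv x hx) ((xE_paired W).inv x hx)⟩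

theorem both_words : ∀ w ∈ wordsK, prodE (both W) w = 1 := fun w hw =>
  Prod.ext ((both_fst W w).trans (wordsK_ON w hw)) ((both_snd W w).trans (xE_words W w hw))

/-- The graph of the map. -/
def graphK : Subgroup (ON × Img W) := spanL (both W) sevenL

theorem small_graphK : Small (graphK W) 161280 := small_K (both W) (both_paired W) (both_words W)

theorem graphK_fst : (graphK W).map (MonoidHom.fst ON (Img W)) = Kf := by
  rw [graphK, spanL, MonoidHom.map_closure, Set.image_image]
  rfl

theorem graphK_snd : (graphK W).map (MonoidHom.snd ON (Img W)) = ⊤ := by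
  rw [graphK, spanL, MonoidHom.map_closure, Set.image_image]
  exact span_top W

theorem fst_injective : Function.Injective ((MonoidHom.fst ON (Img W)).comp (graphK W).subtype) := by
  classical
  haveI := (small_graphK W).1
  let π₁ := (MonoidHom.fst ON (Img W)).comp (graphK W).subtype
  let π₂ := (MonoidHom.snd ON (Img W)).comp (graphK W).subtype
  have hs2 : Function.Surjective π₂ := fun y => by
    obtain ⟨x, hx, rfl⟩ : y ∈ (graphK W).map (MonoidHom.snd ON (Img W)) := by rw [graphK_snd]; trivial
    exact ⟨⟨x, hx⟩, rfl⟩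
  haveI : (π₁.ker.map π₂).Normal := Subgroup.Normal.map inferInstance π₂ hs2
  haveI : IsSimpleGroup (Matrix.ProjectiveSpecialLinearGroup (Fin 3) F) :=
    Classical.Linear.isSimpleGroup_PSL_fin (by norm_num) (by norm_num)
  let L : Subgroup (Matrix.ProjectiveSpecialLinearGroup (Fin 3) F) :=
    (π₁.ker.map π₂).comap SemidirectProduct.inl
  rcases IsSimpleGroup.eq_bot_or_eq_top_of_normal L (Subgroup.Normal.comap inferInstance _) with hL | hL
  · rw [← MonoidHom.ker_eq_bot_iff, eq_bot_iff]
    intro x hx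
    have hn : π₂ x ∈ π₁.ker.map π₂ := ⟨x, hx, rfl⟩
    have h1 : π₂ x = 1 := img_cent W fun l => by
      have hcm : π₂ x * SemidirectProduct.inl l * (π₂ x)⁻¹ * (SemidirectProduct.inl l)⁻¹ = 1 := by
        have e1 : π₂ x * SemidirectProduct.inl l * (π₂ x)⁻¹ * (SemidirectProduct.inl l)⁻¹ ∈ π₁.ker.map π₂ := by
          rw [show π₂ x * SemidirectProduct.inl l * (π₂ x)⁻¹ * (SemidirectProduct.inl l)⁻¹ =
            π₂ x * (SemidirectProduct.inl l * (π₂ x)⁻¹ * (SemidirectProduct.inl l)⁻¹) by group]
          exact mul_mem hn (Subgroup.Normal.conj_mem inferInstance _ (inv_mem hn) _)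
        have e2 : SemidirectProduct.rightHom
            (π₂ x * SemidirectProduct.inl l * (π₂ x)⁻¹ * (SemidirectProduct.inl l)⁻¹) = 1 := by
          simp [SemidirectProduct.rightHom_inl]
        have e3 : π₂ x * SemidirectProduct.inl l * (π₂ x)⁻¹ * (SemidirectProduct.inl l)⁻¹ ∈
            (SemidirectProduct.rightHom (φ := twist W)).ker := e2
        rw [← SemidirectProduct.range_inl_eq_ker_rightHom] at e3
        obtain ⟨m, hm⟩ := e3
        have hmL : m ∈ L := by
          show (SemidirectProduct.inl m : Img W) ∈ π₁.ker.map π₂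
          rw [hm]; exact e1
        rw [hL, Subgroup.mem_bot] at hmL
        rw [← hm, hmL, map_one]
      exact mul_inv_eq_iff_eq_mul.1 (mul_inv_eq_one.1 hcm)
    exact Subgroup.mem_bot.2 (Subtype.ext (Prod.ext hx h1))
  · exfalso
    haveI : Finite (Img W) := Finite.of_equiv _ (SemidirectProduct.equivProd (φ := twist W)).symm
    have h1 : 20160 ≤ Nat.card π₁.ker := by
      refine le_trans ?_ (Nat.le_of_dvd Nat.card_pos (Subgroup.card_map_dvd π₁.ker π₂))
      rw [← card_psl (F := F) (card_frame W)]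
      exact Nat.card_le_card_of_injective
        (fun l => (⟨SemidirectProduct.inl l, (by rw [hL]; trivial : l ∈ L)⟩ : π₁.ker.map π₂))
        fun a b h => SemidirectProduct.inl_injective (congrArg Subtype.val h)
    have h2 : π₁.range = Kf := by rw [MonoidHom.range_comp, Subgroup.range_subtype, graphK_fst]
    have h3 : Nat.card π₁.ker * Nat.card Kf = Nat.card (graphK W) := by
      rw [← h2, ← Nat.card_congr (QuotientGroup.quotientKerEquivRange π₁).toEquiv, mul_comm,
        ← Subgroup.card_eq_card_quotient_mul_card_subgroup]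
    have h4 := Nat.le_of_dvd (Nat.pos_of_ne_zero fun h0 => by rw [h0, mul_zero] at h3; exact Nat.card_pos.ne h3)
      twelve_dvd
    have h5 := (small_graphK W).2
    have h6 := Nat.mul_le_mul h1 h4
    omega

/-- The pairs as a copy of `Kf`. -/
def pairEquiv : graphK W ≃* Kf :=
  (MonoidHom.ofInjective (fst_injective W)).trans (MulEquiv.subgroupCongr (by
    rw [MonoidHom.range_comp, Subgroup.range_subtype, graphK_fst]))

theorem pairEquiv_coe (x : graphK W) : ((pairEquiv W x : Kf) : ON) = (x : ON × Img W).1 := rfl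

/-- The map to `PSL(3,4)` with the outer automorphism. -/
def psiK : Kf →* Img W := ((MonoidHom.snd ON (Img W)).comp (graphK W).subtype).comp (pairEquiv W).symm.toMonoidHom

theorem psiK_word {w : List ℕ} (hw : ∀ y ∈ w, y ∈ sevenL) :
    psiK W ⟨prodE let8 w, word_Kf hw⟩ = prodE (xE W) w := by
  have hm : prodE (both W) w ∈ graphK W := by
    clear * - hw
    induction w with
    | nil => exact one_mem _
    | cons y w ih =>
      exact mul_mem (mem_spanL _ (hw y List.mem_cons_self)) (ih fun z hz => hw z (List.mem_cons_of_mem _ hz))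
  have e : (pairEquiv W).symm ⟨prodE let8 w, word_Kf hw⟩ = ⟨prodE (both W) w, hm⟩ :=
    (pairEquiv W).injective ((MulEquiv.apply_symm_apply _ _).trans
      (Subtype.ext ((both_fst W w).symm.trans (pairEquiv_coe W ⟨_, hm⟩).symm)))
  show (((pairEquiv W).symm ⟨prodE let8 w, word_Kf hw⟩ : graphK W) : ON × Img W).2 = _
  rw [e]
  exact both_snd W w

theorem psiK_surjective : Function.Surjective (psiK W) := fun y => by
  obtain ⟨x, hx, rfl⟩ : y ∈ (graphK W).map (MonoidHom.snd ON (Img W)) := by rw [graphK_snd]; trivial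
  exact ⟨pairEquiv W ⟨x, hx⟩, by
    show (((pairEquiv W).symm (pairEquiv W ⟨x, hx⟩) : graphK W) : ON × Img W).2 = _
    rw [MulEquiv.symm_apply_apply]; rfl⟩

theorem card_img : Nat.card (Img W) = 40320 := by
  rw [Nat.card_congr (SemidirectProduct.equivProd (φ := twist W)), Nat.card_prod, card_psl (card_frame W)]
  simp

/-- The central element. -/
def zK : Kf := ⟨prodE let8 zW, word_Kf (by decide)⟩

theorem psiK_z : psiK W zK = 1 := by
  rw [zK, psiK_word W (by decide)]
  exact xE_triv W (by decide) (by decide +kernel)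

theorem zK_order : orderOf zK = 4 := by rw [← Subgroup.orderOf_coe]; exact z_order

theorem psiK_ker : (psiK W).ker = Subgroup.zpowers zK ∧ Nat.card Kf = 161280 := by
  haveI := small_Kf.1
  have hle : Subgroup.zpowers zK ≤ (psiK W).ker := Subgroup.zpowers_le.2 (psiK_z W)
  have hc : Nat.card Kf = Nat.card (Img W) * Nat.card (psiK W).ker := by
    rw [Subgroup.card_eq_card_quotient_mul_card_subgroup (psiK W).ker,
      Nat.card_congr (QuotientGroup.quotientKerEquivOfSurjective _ (psiK_surjective W)).toEquiv]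
  rw [card_img W] at hc
  have h4 : 4 ≤ Nat.card (psiK W).ker := by
    have := Subgroup.card_le_of_le hle
    rwa [Nat.card_zpowers, zK_order] at this
  have h5 := small_Kf.2
  have h6 : Nat.card (psiK W).ker = 4 := by omega
  exact ⟨(Subgroup.eq_of_le_of_card_ge hle (by rw [Nat.card_zpowers, zK_order, h6])).symm, by omega⟩

/-- The part of `Kf` over `PSL(3,4)`. -/
def M0 : Subgroup Kf := ((SemidirectProduct.rightHom).comp (psiK W)).ker

instance M0_normal : (M0 W).Normal := by unfold M0; infer_instance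

theorem M0_index : (M0 W).index = 2 := by
  unfold M0
  rw [Subgroup.index_ker, MonoidHom.range_eq_top.2 (fun u => ?_)]
  · simp
  · obtain ⟨k, hk⟩ := psiK_surjective W (SemidirectProduct.inr u)
    exact ⟨k, by rw [MonoidHom.comp_apply, hk, SemidirectProduct.rightHom_inr]⟩

/-- The map onto `PSL(3,4)`. -/
def phi0 : M0 W →* Matrix.ProjectiveSpecialLinearGroup (Fin 3) F where
  toFun x := (psiK W x).left
  map_one' := by simp
  map_mul' x y := by
    have hx : (psiK W (x : Kf)).right = 1 := x.2
    simp [SemidirectProduct.mul_left, hx]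

theorem inl_phi0 (x : M0 W) : SemidirectProduct.inl (phi0 W x) = psiK W x := by
  refine SemidirectProduct.ext ?_ ?_
  · simp [phi0]
  · rw [SemidirectProduct.right_inl]; exact x.2.symm

theorem phi0_surjective : Function.Surjective (phi0 W) := fun l => by
  obtain ⟨k, hk⟩ := psiK_surjective W (SemidirectProduct.inl l)
  refine ⟨⟨k, ?_⟩, ?_⟩
  · show SemidirectProduct.rightHom (psiK W k) = 1
    rw [hk, SemidirectProduct.rightHom_inl]
  · show (psiK W k).left = l
    rw [hk, SemidirectProduct.left_inl]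

theorem xE_right {x : ℕ} (hx : x < 8) : (xE W x).right = outer (gEl x).2.2 := by rw [xE, dif_pos hx]

/-- The conjugation action on the central element. -/
theorem conj_z (k : Kf) :
    ((psiK W k).right = 1 → (k : ON) * zK * (k : ON)⁻¹ = zK) ∧
    ((psiK W k).right ≠ 1 → (k : ON) * zK * (k : ON)⁻¹ = (zK : ON)⁻¹) := by
  obtain ⟨k, hk⟩ := k
  have hu : ∀ u : Multiplicative (ZMod 2), u = 1 ∨ u = Multiplicative.ofAdd 1 := by decide
  have h11 : Multiplicative.ofAdd (1 : ZMod 2) * Multiplicative.ofAdd 1 = 1 := by decide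
  have hne : Multiplicative.ofAdd (1 : ZMod 2) ≠ 1 := by decide
  have hr : ∀ a b : Kf, (psiK W (a * b)).right = (psiK W a).right * (psiK W b).right := fun a b => by
    rw [map_mul, SemidirectProduct.mul_right]
  induction hk using Subgroup.closure_induction with
  | mem y hy =>
    obtain ⟨x, hx, rfl⟩ := hy
    have hx8 : x < 8 := by revert hx; simp [sevenL]; omega
    have e : psiK W (⟨let8 x, Subgroup.subset_closure ⟨x, hx, rfl⟩⟩ : Kf) = xE W x := by
      have := psiK_word W (w := [x]) (by simpa using hx)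
      simpa [prodE] using this
    rw [e, xE_right W hx8]
    have key : ∀ y ∈ sevenL, fixesThree ([y] ++ zW ++ [ivL ONTable.iv y] ++
        (if (gEl y).2.2 then zW else invW ONTable.iv zW)) = true := by decide +kernel
    have h := word_one (key x hx)
    rw [prodE_append, prodE_append, prodE_append] at h
    simp only [prodE, mul_one, let8_paired.inv x hx8] at h
    cases hq : (gEl x).2.2 <;> rw [hq] at h
    · refine ⟨fun _ => ?_, fun hne => absurd rfl hne⟩
      rw [if_neg Bool.false_ne_true, prodE_invW let8_paired zW (by decide)] at h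
      exact mul_inv_eq_one.1 h
    · refine ⟨fun h' => absurd h' hne, fun _ => ?_⟩
      rw [if_pos rfl] at h
      exact eq_inv_of_mul_eq_one_left h
  | one =>
    refine ⟨fun _ => by simp, fun h => absurd ?_ h⟩
    show (psiK W 1).right = 1
    rw [map_one]; rfl
  | mul a b ha hb iha ihb =>
    have e := hr ⟨a, ha⟩ ⟨b, hb⟩
    have hconj : a * b * (zK : ON) * (a * b)⁻¹ = a * (b * zK * b⁻¹) * a⁻¹ := by group
    simp only [Subgroup.coe_mul] at hconj ⊢
    change ((psiK W (⟨a, ha⟩ * ⟨b, hb⟩ : Kf)).right = 1 → _) ∧ ((psiK W (⟨a, ha⟩ * ⟨b, hb⟩ : Kf)).right ≠ 1 → _)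
    rw [e, hconj]
    rcases hu (psiK W ⟨a, ha⟩).right with p | p <;> rcases hu (psiK W ⟨b, hb⟩).right with q | q <;> rw [p, q]
    · exact ⟨fun _ => by rw [ihb.1 q]; exact iha.1 p, fun h => absurd (one_mul _) h⟩
    · exact ⟨fun h => absurd h (by simp), fun _ => by
        rw [ihb.2 (by rw [q]; exact hne), show a * (zK : ON)⁻¹ * a⁻¹ = (a * zK * a⁻¹)⁻¹ by group, iha.1 p]⟩
    · exact ⟨fun h => absurd h (by simp), fun _ => by
        rw [ihb.1 q]; exact iha.2 (by rw [p]; exact hne)⟩
    · exact ⟨fun _ => by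
        have h2 := iha.2 (by rw [p]; exact hne)
        rw [ihb.2 (by rw [q]; exact hne), show a * (zK : ON)⁻¹ * a⁻¹ = (a * zK * a⁻¹)⁻¹ by group, h2, inv_inv],
        fun h => absurd h11 h⟩
  | inv a ha iha =>
    have e : (psiK W (⟨a, ha⟩⁻¹ : Kf)).right = (psiK W ⟨a, ha⟩).right := by
      rw [map_inv, SemidirectProduct.inv_right]
      rcases hu (psiK W ⟨a, ha⟩).right with p | p <;> rw [p] <;> decide
    change ((psiK W (⟨a, ha⟩⁻¹ : Kf)).right = 1 → _) ∧ ((psiK W (⟨a, ha⟩⁻¹ : Kf)).right ≠ 1 → _)
    rw [e]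
    refine ⟨fun p => ?_, fun p => ?_⟩
    · show a⁻¹ * (zK : ON) * a⁻¹⁻¹ = zK
      conv_lhs => rw [← iha.1 p]
      group
    · show a⁻¹ * (zK : ON) * a⁻¹⁻¹ = (zK : ON)⁻¹
      have h2 := congrArg (·⁻¹) (iha.2 p)
      simp only [inv_inv] at h2
      conv_lhs => rw [← h2]
      group

/-- The central element in `M0`. -/
def z0 : M0 W := ⟨zK, by show SemidirectProduct.rightHom (psiK W zK) = 1; rw [psiK_z, map_one]⟩

theorem z0_central : z0 W ∈ Subgroup.center (M0 W) := Subgroup.mem_center_iff.2 fun x => by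
  refine Subtype.ext (Subtype.ext ?_)
  exact mul_inv_eq_iff_eq_mul.1 ((conj_z W (x : Kf)).1 x.2)

theorem phi0_ker : (phi0 W).ker = Subgroup.zpowers (z0 W) := by
  ext x
  rw [MonoidHom.mem_ker]
  constructor
  · intro h
    have h1 : (x : Kf) ∈ (psiK W).ker := by rw [MonoidHom.mem_ker, ← inl_phi0, h, map_one]
    rw [(psiK_ker W).1] at h1
    obtain ⟨n, hn⟩ := h1
    exact ⟨n, Subtype.ext (by simpa [z0] using hn)⟩
  · rintro ⟨n, rfl⟩
    rw [map_zpow, show phi0 W (z0 W) = 1 by show (psiK W zK).left = 1; rw [psiK_z]; rfl, one_zpow]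

theorem M0_center : Subgroup.center (M0 W) = Subgroup.zpowers (z0 W) := by
  ext x
  rw [← ker_eq_center (phi0_surjective W)
    (by rw [phi0_ker W, Subgroup.zpowers_le]; exact z0_central W) x, ← MonoidHom.mem_ker, phi0_ker W]

theorem M0_center_cyclic : IsCyclic (Subgroup.center (M0 W)) := by
  rw [M0_center W]; infer_instance

theorem M0_center_card : Nat.card (Subgroup.center (M0 W)) = 4 := by
  rw [M0_center W, Nat.card_zpowers, ← Subgroup.orderOf_coe]
  exact zK_order

theorem M0_cent_le : Subgroup.centralizer (M0 W : Set Kf) ≤ M0 W := by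
  intro k hk
  have h : psiK W k = 1 := img_cent W fun l => by
    obtain ⟨x, rfl⟩ := phi0_surjective W l
    rw [inl_phi0, ← map_mul, ← map_mul, Subgroup.mem_centralizer_iff.1 hk x x.2]
  show SemidirectProduct.rightHom (psiK W k) = 1
  rw [h, map_one]

theorem word_M0 {w : List ℕ} (hw : ∀ y ∈ w, y ∈ sevenL) (hp : (evalEl w).2.2 = false) :
    (⟨prodE let8 w, word_Kf hw⟩ : Kf) ∈ M0 W := by
  show SemidirectProduct.rightHom (psiK W _) = 1
  rw [psiK_word W hw]
  obtain ⟨s, -, -, hx⟩ := codes_word W w fun y hy => by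
    have := hw y hy
    simp [sevenL] at this
    omega
  rw [hx, hp]
  rfl

theorem comm_mem {u v : List ℕ} (hu : ∀ y ∈ u, y ∈ sevenL) (hv : ∀ y ∈ v, y ∈ sevenL)
    (pu : (evalEl u).2.2 = false) (pv : (evalEl v).2.2 = false) :
    ∃ x ∈ commutator (M0 W), ((x : Kf) : ON) = prodE let8 (invW ONTable.iv u ++ invW ONTable.iv v ++ u ++ v) := by
  have hlt : ∀ {t : List ℕ}, (∀ y ∈ t, y ∈ sevenL) → ∀ y ∈ t, y < 8 := fun ht y hy => by
    have := ht y hy
    simp [sevenL] at this
    omega
  let a : M0 W := ⟨_, word_M0 W hu pu⟩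
  let b : M0 W := ⟨_, word_M0 W hv pv⟩
  refine ⟨⁅a⁻¹, b⁻¹⁆, Subgroup.commutator_mem_commutator (Subgroup.mem_top _) (Subgroup.mem_top _), ?_⟩
  rw [prodE_append, prodE_append, prodE_append, prodE_invW let8_paired u (hlt hu),
    prodE_invW let8_paired v (hlt hv)]
  simp [commutatorElement_def, a, b, mul_assoc]

theorem z0_commutator : z0 W ∈ commutator (M0 W) := by
  obtain ⟨x, hx, ex⟩ := comm_mem W (u := U1) (v := V1) (by decide) (by decide) (by decide +kernel) (by decide +kernel)
  obtain ⟨y, hy, ey⟩ := comm_mem W (u := U2) (v := V2) (by decide) (by decide) (by decide +kernel) (by decide +kernel)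
  have h := word_one (w := (invW ONTable.iv U1 ++ invW ONTable.iv V1 ++ U1 ++ V1) ++
    ((invW ONTable.iv U2 ++ invW ONTable.iv V2 ++ U2 ++ V2) ++ invW ONTable.iv zW)) (by decide +kernel)
  rw [prodE_append, prodE_append _ (invW ONTable.iv U2 ++ invW ONTable.iv V2 ++ U2 ++ V2), ← ex, ← ey,
    prodE_invW let8_paired zW (by decide), ← mul_assoc] at h
  have e : z0 W = x * y := Subtype.ext (Subtype.ext (by
    simp only [Subgroup.coe_mul]
    exact (mul_inv_eq_one.1 h).symm))
  rw [e]
  exact mul_mem hx hy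

theorem M0_perfect : commutator (M0 W) = ⊤ := by
  rw [eq_top_iff]
  intro x _
  have hmap : (commutator (M0 W)).map (phi0 W) = ⊤ := by
    rw [commutator_def, Subgroup.map_commutator, Subgroup.map_top_of_surjective _ (phi0_surjective W),
      ← commutator_def, commutator_psl]
  obtain ⟨y, hy, e⟩ : phi0 W x ∈ (commutator (M0 W)).map (phi0 W) := by rw [hmap]; trivial
  have h : y⁻¹ * x ∈ (phi0 W).ker := by rw [MonoidHom.mem_ker, map_mul, map_inv, e, inv_mul_cancel]
  rw [phi0_ker W] at h
  obtain ⟨n, hn⟩ := h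
  have : x = y * z0 W ^ n := by
    show x = y * (fun n : ℤ => z0 W ^ n) n
    rw [hn, mul_inv_cancel_left]
  rw [this]
  exact mul_mem hy (zpow_mem (z0_commutator W) n)

/-- The central quotient. -/
def M0Quot : M0 W ⧸ Subgroup.center (M0 W) ≃* Matrix.ProjectiveSpecialLinearGroup (Fin 3) F :=
  (QuotientGroup.quotientMulEquivOfEq (by rw [M0_center W, phi0_ker W])).trans
    (QuotientGroup.quotientKerEquivOfSurjective (phi0 W) (phi0_surjective W))

/-- The structure of `<a,b,c,d,f,g>` in the form of the hypotheses on an involution centraliser. -/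
theorem kf_structure (hF : Fintype.card F = 4) :
    ∃ M : Subgroup Kf, M.Normal ∧ M.index = 2 ∧ Subgroup.centralizer (M : Set Kf) ≤ M ∧
      IsCyclic (Subgroup.center M) ∧ Nat.card (Subgroup.center M) = 4 ∧ commutator M = ⊤ ∧
      Nonempty (M ⧸ Subgroup.center M ≃* Matrix.ProjectiveSpecialLinearGroup (Fin 3) F) := by
  obtain ⟨W'⟩ := exists_frame hF
  exact ⟨M0 W', inferInstance, M0_index W', M0_cent_le W', M0_center_cyclic W', M0_center_card W',
    M0_perfect W', ⟨M0Quot W'⟩⟩

theorem Kf_card : Nat.card Kf = 161280 := by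
  haveI : Fintype (GaloisField 2 2) := Fintype.ofFinite _
  have h : Fintype.card (GaloisField 2 2) = 4 := by
    rw [← Nat.card_eq_fintype_card, GaloisField.card 2 2 (by norm_num)]; norm_num
  obtain ⟨W⟩ := exists_frame h
  exact (psiK_ker W).2

end Cfsg.Agent.ONType.Side
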