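import Cfsg.Agent.Lib.ONType.Side.CentScan
import Cfsg.Agent.Lib.ONType.Side.FixCount
import Cfsg.Agent.Lib.ONType.Side.OneClass
import Cfsg.Agent.Lib.ONType.Side.Structure

/-!
# The centraliser of `f` is `<a,b,c,d,f,g>`
-/

set_option autoImplicit false
set_option maxRecDepth 100000

noncomputable section

namespace Cfsg.Agent.ONType.Side

open Cfsg.Spor Cfsg.Agent.InvCoset Cfsg.Agent.ONGroup

/-- The centraliser of `f`. -/
def CF : Subgroup ON := Subgroup.centralizer {let8 5}

theorem mem_CF {c : ON} : c ∈ CF ↔ c * let8 5 = let8 5 * c := Subgroup.mem_centralizer_singleton_iff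

theorem act_f_apply (x : Row) :
    (((act122760 (let8 5))⁻¹ x : Row) : ℕ) = ONTable.table.tgt x 5 := by
  rw [act_letter 5 (by decide)]
  exact permE_inv_apply certified (by decide) x

theorem moved_fixed {c : ON} (hc : c ∈ CF) {x : Row} (hx : ONTable.table.tgt x 5 = x) :
    ONTable.table.tgt (act122760 c x : Row) 5 = (act122760 c x : Row) := by
  have h1 : act122760 (let8 5) x = x := by
    have h : (act122760 (let8 5))⁻¹ x = x := Fin.ext ((act_f_apply x).trans hx)
    exact (Equiv.Perm.eq_inv_iff_eq.1 h.symm)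
  have h2 : act122760 (let8 5) (act122760 c x) = act122760 c x := by
    rw [← Equiv.Perm.mul_apply, ← map_mul, ← mem_CF.1 hc, map_mul, Equiv.Perm.mul_apply, h1]
  rw [← act_f_apply]
  exact congrArg Fin.val (Equiv.Perm.inv_eq_iff_eq.2 h2.symm)

/-- Labels are constant on orbits of `hSub`. -/
theorem lab_const {h : ON} (hh : h ∈ hSub) :
    ∀ x : Row, ONTable.orbits.lab (act122760 h x : Row) = ONTable.orbits.lab x := by
  induction hh using Subgroup.closure_induction with
  | mem y hy =>
    obtain ⟨k, hk, rfl⟩ := hy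
    simp only [Set.mem_setOf_eq] at hk
    intro x
    have hx : ∀ (z : Row) (k : ℕ), k < 6 → ONTable.orbits.lab (ONTable.table.tgt z k) = ONTable.orbits.lab z := by
      intro z k hk
      have h := ONTable.orbAll z z.2
      simp only [Tab.orbChk, Bool.and_eq_true] at h
      have hm : ONTable.orbits.m = 6 := by decide +kernel
      have key : ∀ m, ONTable.table.sameLab ONTable.orbits z m = true → ∀ k < m,
          ONTable.orbits.lab (ONTable.table.tgt z k) = ONTable.orbits.lab z := by
        intro m
        induction m with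
        | zero => intro _ k hk; omega
        | succ m ih =>
          intro hs k hk
          simp only [Tab.sameLab, Bool.and_eq_true] at hs
          rcases Nat.lt_succ_iff_lt_or_eq.mp hk with e | rfl
          · exact ih hs.2 k e
          · exact Nat.eq_of_beq_eq_true hs.1
      exact key _ h.1 k (by rw [hm]; exact hk)
    have e := hx (act122760 (let8 k) x) k hk
    rw [act_letter k (show k < ONTable.table.K from Nat.lt_of_lt_of_le hk (by decide))] at e ⊢
    rw [← e, ← permE_inv_apply certified (show k < ONTable.table.K from Nat.lt_of_lt_of_le hk (by decide))]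
    simp
  | one => intro x; rw [map_one]; rfl
  | mul a b _ _ iha ihb => intro x; rw [map_mul, Equiv.Perm.mul_apply, iha, ihb]
  | inv a _ ih => intro x; rw [← ih, ← Equiv.Perm.mul_apply, ← map_mul, mul_inv_cancel, map_one]; rfl

theorem four_eq : fixIn hSub row1 = spanL let8 [0, 1, 2, 3] := by
  have hle : spanL let8 [0, 1, 2, 3] ≤ fixIn hSub row1 := by
    refine (Subgroup.closure_le _).2 ?_
    rintro _ ⟨x, hx, rfl⟩
    exact fix_four x (by revert hx; simp; omega)
  have h1 := orbit_mul_le hSub row1 (labSet (ONTable.orbits.lab row1)) fun s hs =>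
    same_lab ((Finset.mem_filter.mp hs).2).symm
  rw [labSet_card, show ONTable.orbits.lab row1 = 2 by decide +kernel, ONTable.count2] at h1
  have h3 := hSub_card_le
  have hfix : Nat.card (fixIn hSub row1) ≤ 672 := by omega
  have hlt : ∀ p ∈ ONTable.spanPts, p < ONTable.table.n := by
    have h : inRange ONTable.table.n ONTable.spanPts = true := by decide +kernel
    exact inRange_spec h
  let S : Finset Row := Finset.univ.filter fun c => (c : ℕ) ∈ ONTable.spanPts
  have hS : S.card = 672 := by
    rw [← ONTable.span_len, ← List.toFinset_card_of_nodup (distinctL_spec ONTable.span_distinct)]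
    refine Finset.card_bij (fun c _ => (c : ℕ)) (fun c hc => ?_) (fun a _ b _ h => Fin.ext h) fun b hb => ?_
    · exact List.mem_toFinset.mpr (Finset.mem_filter.mp hc).2
    · rw [List.mem_toFinset] at hb
      exact ⟨⟨b, hlt b hb⟩, Finset.mem_filter.mpr ⟨Finset.mem_univ _, hb⟩, rfl⟩
  have h2 := orbit_mul_le (spanL let8 [0, 1, 2, 3]) row2 S fun s hs => by
    obtain ⟨i, hi, hrow⟩ := exists_rootOf (Finset.mem_filter.mp hs).2
    obtain ⟨a, ha, he⟩ := span_orbit certified let8 act122760 act_letter (spanL let8 [0, 1, 2, 3]) (by decide)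
      (fun x hx => mem_spanL _ (by simp; omega)) ONTable.span_ok row2 (by decide +kernel) i hi
    exact ⟨a, ha, Fin.ext (he.trans hrow)⟩
  rw [hS] at h2
  haveI : Finite (spanL let8 [0, 1, 2, 3]) := Subtype.finite
  have h4 : 0 < Nat.card (fixIn (spanL let8 [0, 1, 2, 3]) row2) := Nat.card_pos
  refine (Subgroup.eq_of_le_of_card_ge hle ?_).symm
  nlinarith

/-- A word of `centW` does not commute with `f`. -/
def noComm (p : ℕ × List ℕ) : Bool :=
  inRange 6 p.2 && Nat.beq (ONTable.table.runW p.2 3) p.1 && !fixesThree (p.2 ++ ([5] ++ (invW ONTable.iv p.2 ++ [5])))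
    && inRange 8 (p.2 ++ ([5] ++ (invW ONTable.iv p.2 ++ [5])))

theorem centW_ok : centW.all noComm = true := by decide +kernel

theorem inCentW_spec {c : ℕ} : ∀ {l : List (ℕ × List ℕ)}, inCentW c l = true → ∃ p ∈ l, p.1 = c
  | [], h => by simp [inCentW] at h
  | q :: l, h => by
    simp only [inCentW, Bool.or_eq_true] at h
    rcases h with h | h
    · exact ⟨q, List.mem_cons_self, Nat.eq_of_beq_eq_true h⟩
    · obtain ⟨p, hp, e⟩ := inCentW_spec h
      exact ⟨p, List.mem_cons_of_mem _ hp, e⟩

theorem four_le_CF : spanL let8 [0, 1, 2, 3] ≤ CF :=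
  le_trans (spanL_mono let8 (by decide)) Kf_le_cent

theorem stab_le {c : ON} (hc : c ∈ CF) (h0 : act122760 c row0 = row0) : c ∈ spanL let8 [0, 1, 2, 3] := by
  have hH : c ∈ hSub := (mem_hSub_iff c).2 h0
  have hr1 : ONTable.table.tgt row1 5 = row1 := by decide +kernel
  have hy := moved_fixed hc hr1
  have hl := lab_const hH row1
  have hs := scan_all (c := (act122760 c row1 : Row)) (act122760 c row1).2
  have hl2 : ONTable.orbits.lab row1 = 2 := by decide +kernel
  simp only [scanOK, hy, Nat.beq_refl, cond_true, hl, hl2, Bool.or_eq_true] at hs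
  rcases hs with hs | hs
  · rw [← four_eq]
    exact mem_fixIn.2 ⟨hH, Fin.ext (Nat.eq_of_beq_eq_true hs)⟩
  · exfalso
    obtain ⟨⟨y, v⟩, hp, e⟩ := inCentW_spec hs
    have hok := List.all_eq_true.mp centW_ok _ hp
    simp only [noComm, Bool.and_eq_true, Bool.not_eq_true'] at hok
    obtain ⟨⟨⟨hv6, hrun⟩, hne⟩, hr8⟩ := hok
    have hv8 : ∀ z ∈ v, z < 8 := fun z hz => by have := inRange_spec hv6 z hz; omega
    have hvH : prodE let8 v ∈ hSub := by
      have h := inRange_spec hv6
      clear * - h
      induction v with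
      | nil => exact one_mem _
      | cons z v ih => exact mul_mem (mem_hSub (h z List.mem_cons_self)) (ih fun w hw => h w (List.mem_cons_of_mem _ hw))
    have hmove : (act122760 (prodE let8 v))⁻¹ row1 = act122760 c row1 := by
      refine Fin.ext ?_
      rw [map_prodE_permE certified let8 act122760 act_letter v hv8, ← Equiv.Perm.smul_def, ← actW_eq,
        actW_permE certified v hv8]
      exact (Nat.eq_of_beq_eq_true hrun).trans e
    have hmem : prodE let8 v * c ∈ fixIn hSub row1 := mem_fixIn.2 ⟨mul_mem hvH hH, by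
      rw [map_mul, Equiv.Perm.mul_apply, ← hmove]; exact Equiv.apply_symm_apply _ _⟩
    rw [four_eq] at hmem
    have hvC : prodE let8 v ∈ CF := by
      have h := mul_mem (four_le_CF hmem) (inv_mem hc)
      rwa [mul_inv_cancel_right] at h
    have h1 : prodE let8 (v ++ ([5] ++ (invW ONTable.iv v ++ [5]))) = prodE let8 [] := by
      rw [prodE_append, prodE_append, prodE_append, prodE_invW let8_paired v hv8]
      simp only [prodE, mul_one]
      rw [← mul_assoc, mem_CF.1 hvC, ← mul_assoc, mul_inv_cancel_right]
      exact gen_invol _ (by decide)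
    have e3 := fun x : Row => runW_eq (inRange_spec hr8) (by simp) h1 x
    have q0 : ONTable.table.runW (v ++ ([5] ++ (invW ONTable.iv v ++ [5]))) 0 = 0 := e3 row0
    have q1 : ONTable.table.runW (v ++ ([5] ++ (invW ONTable.iv v ++ [5]))) 3 = 3 := e3 row1
    have q2 : ONTable.table.runW (v ++ ([5] ++ (invW ONTable.iv v ++ [5]))) 113129 = 113129 := e3 row2
    rw [fixesThree, hr8, q0, q1, q2] at hne
    simp at hne

/-- The centraliser of `f`. -/
theorem centralizer_f : Subgroup.centralizer ({let8 5} : Set ON) = Kf := by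
  classical
  haveI := ONGroup.finite_ON
  show CF = Kf
  have hK : Kf ≤ CF := Kf_le_cent
  -- the orbit of the first row
  let Fx : Finset Row := Finset.univ.filter fun x => ONTable.table.tgt x 5 = x
  have hFx : Fx.card = 360 := by
    rw [← fix_count]
    refine Finset.card_bij (fun x _ => (x : ℕ)) (fun x hx => ?_) (fun a _ b _ h => Fin.ext h) fun b hb => ?_
    · exact Finset.mem_filter.2 ⟨Finset.mem_range.2 x.2, (Finset.mem_filter.1 hx).2⟩
    · obtain ⟨hb1, hb2⟩ := Finset.mem_filter.1 hb
      exact ⟨⟨b, Finset.mem_range.1 hb1⟩, Finset.mem_filter.2 ⟨Finset.mem_univ _, hb2⟩, rfl⟩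
  let L := spanL let8 [0, 1, 2, 3]
  haveI : Fintype CF := Fintype.ofFinite _
  have hL : Nat.card L ≤ 672 := small_abcd.2
  have h0 : ONTable.table.tgt row0 5 = row0 := by decide +kernel
  have hcard : Nat.card CF ≤ 360 * 672 := by
    let f : CF → Row := fun c => act122760 (c : ON) row0
    have himg : (Finset.univ.image f) ⊆ Fx := fun x hx => by
      obtain ⟨c, -, rfl⟩ := Finset.mem_image.1 hx
      exact Finset.mem_filter.2 ⟨Finset.mem_univ _, moved_fixed c.2 h0⟩
    have hfib : ∀ x ∈ Finset.univ.image f, (Finset.univ.filter fun c => f c = x).card ≤ 672 := by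
      intro x hx
      obtain ⟨d, -, rfl⟩ := Finset.mem_image.1 hx
      haveI : Fintype L := Fintype.ofFinite _
      refine le_trans (Finset.card_le_card_of_injOn (t := (Finset.univ : Finset L).image Subtype.val)
        (fun c => (d : ON)⁻¹ * (c : ON)) ?_ ?_) ?_
      · intro c hc
        have hc' : f c = f d := (Finset.mem_filter.1 hc).2
        have hm : (d : ON)⁻¹ * c ∈ L := stab_le (mul_mem (inv_mem d.2) c.2) (by
          rw [map_mul, map_inv, Equiv.Perm.mul_apply, Equiv.Perm.inv_eq_iff_eq]
          exact hc')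
        exact Finset.mem_image.2 ⟨⟨_, hm⟩, Finset.mem_univ _, rfl⟩
      · intro a _ b _ h
        exact Subtype.ext (mul_left_cancel h)
      · refine le_trans Finset.card_image_le ?_
        rw [Finset.card_univ, ← Nat.card_eq_fintype_card]
        exact hL
    have h := Finset.card_le_mul_card_image (f := f) Finset.univ 672 hfib
    rw [Finset.card_univ, ← Nat.card_eq_fintype_card] at h
    have h2 := Finset.card_le_card himg
    rw [hFx] at h2
    omega
  obtain ⟨k, hk⟩ := Subgroup.card_dvd_of_le hK
  rw [Kf_card] at hk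
  have hpos : 0 < Nat.card CF := Nat.card_pos
  have hk1 : k = 1 := by omega
  exact (Subgroup.eq_of_le_of_card_ge hK (by rw [Kf_card]; omega)).symm

theorem card_centralizer_f : Nat.card (Subgroup.centralizer ({let8 5} : Set ON)) = 161280 := by
  rw [centralizer_f, Kf_card]

/-- The hypotheses of S1661 for the presented group and `f`. -/
theorem on_hypotheses {F : Type*} [Field F] [Fintype F] (hF : Fintype.card F = 4) :
    ∃ M : Subgroup (Subgroup.centralizer ({let8 5} : Set ON)), M.Normal ∧ M.index = 2 ∧
      Subgroup.centralizer (M : Set (Subgroup.centralizer ({let8 5} : Set ON))) ≤ M ∧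
      IsCyclic (Subgroup.center M) ∧ Nat.card (Subgroup.center M) = 4 ∧ commutator M = ⊤ ∧
      Nonempty (M ⧸ Subgroup.center M ≃* Matrix.ProjectiveSpecialLinearGroup (Fin 3) F) := by
  have key : ∀ H : Subgroup ON, H = Kf → ∃ M : Subgroup H, M.Normal ∧ M.index = 2 ∧
      Subgroup.centralizer (M : Set H) ≤ M ∧ IsCyclic (Subgroup.center M) ∧ Nat.card (Subgroup.center M) = 4 ∧
      commutator M = ⊤ ∧ Nonempty (M ⧸ Subgroup.center M ≃* Matrix.ProjectiveSpecialLinearGroup (Fin 3) F) := by
    rintro H rfl
    exact kf_structure hF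
  exact key _ centralizer_f

end Cfsg.Agent.ONType.Side
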