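import Mathlib

/-!
# The other rows fixed by `f` in the suborbit of length 5586, with words
-/

set_option autoImplicit false

noncomputable section

namespace Cfsg.Agent.ONType.Side

/-- A row and a word to it from the row `3`. -/
def centW : List (ℕ × List ℕ) := [(5, [4, 3, 2, 1, 0, 3, 5, 4, 3, 2, 1, 3, 2, 1, 4, 3, 2, 1, 0, 3, 5, 4, 3, 2, 3, 2, 1, 0, 4, 3, 2, 1, 3, 2, 4, 3, 2, 1]),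
  (18, [4, 3, 2, 1, 0, 3, 5, 4, 3, 2, 1, 3, 2, 1, 4, 3, 2, 1, 3, 2, 4, 3, 5, 4, 3, 2, 1, 0, 3, 2, 1, 3, 2, 4, 3]),
  (19, [4, 3, 2, 1, 0, 3, 5, 4, 3, 2, 1, 3, 2, 1, 4, 3, 2, 1, 3, 2, 4, 3, 5, 4, 3, 2, 1, 0, 3, 2, 1, 3, 2, 4, 3, 2]),
  (33, [4, 3, 2, 1, 0, 3, 5, 4, 3, 2, 1, 3, 2, 1, 4, 3, 2, 1, 0, 3, 5, 4, 3, 2, 3, 2, 1, 0, 4, 3, 2, 1, 3, 2, 4, 3, 2]),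
  (43, [4, 3, 2, 1, 0, 3, 5, 4, 3, 2, 1, 3, 2, 1, 4, 3, 2, 1, 3, 2, 4, 3, 5, 4, 3, 2, 1, 0, 3, 2, 1, 3, 2, 4]),
  (44, [4, 3, 2, 1, 0, 3, 5, 4, 3, 2, 3, 2, 1, 0, 4, 3, 2, 1, 3, 2, 3, 4, 3, 2, 1, 5, 4, 3, 2, 1, 3, 2, 4]),
  (45, [4, 3, 2, 1, 0, 3, 5, 4, 3, 2, 3, 2, 1, 0, 4, 3, 2, 1, 3, 2, 3, 4, 3, 2, 1, 5, 4, 3, 2, 1, 3, 4]),
  (46, [4, 3, 2, 1, 3, 2, 1, 4, 3, 2, 1, 0, 5, 4, 3, 2, 1, 3, 2, 3, 2, 4, 3, 2, 1, 3, 2, 4, 3, 5, 4]),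
  (47, [4, 3, 2, 1, 0, 3, 5, 4, 3, 2, 3, 2, 1, 0, 4, 3, 2, 1, 3, 2, 3, 4, 3, 2, 1, 5, 4, 3, 2, 1, 3, 2, 4, 3]),
  (67, [4, 3, 2, 1, 0, 3, 5, 4, 3, 2, 1, 3, 2, 1, 4, 3, 2, 1, 0, 3, 5, 4, 3, 2, 3, 2, 1, 0, 4, 3, 2, 1, 3, 2, 4, 3]),
  (69, [4, 3, 2, 1, 0, 3, 5, 4, 3, 2, 1, 3, 2, 1, 4, 3, 2, 1, 0, 3, 5, 4, 3, 2, 3, 2, 1, 0, 4, 3, 2, 1, 3, 2, 4]),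
  (104, [4, 3, 2, 1, 0, 3, 5, 4, 3, 2, 1, 3, 2, 1, 4, 3, 2, 1, 3, 2, 4, 3, 5, 4, 3, 2, 1, 0, 3, 2, 1, 3, 4]),
  (105, [4, 3, 2, 1, 0, 3, 5, 4, 3, 2, 1, 3, 2, 1, 4, 3, 2, 1, 3, 2, 4, 3, 5, 4, 3, 2, 1, 0, 3, 2, 3, 4]),
  (106, [4, 3, 2, 1, 0, 3, 5, 4, 3, 2, 3, 2, 1, 0, 4, 3, 2, 1, 3, 2, 3, 4, 3, 2, 1, 5, 4, 3, 2, 3, 4]),
  (107, [4, 3, 2, 1, 0, 3, 2, 4, 3, 5, 4, 3, 2, 1, 0, 3, 2, 1, 3, 2, 4, 3, 2, 5, 4, 3, 2, 1, 3, 2, 3, 4]),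
  (123, [4, 3, 2, 1, 0, 3, 5, 4, 3, 2, 1, 3, 2, 1, 4, 3, 2, 1, 0, 3, 5, 4, 3, 2, 3, 2, 1, 0, 4, 3, 2, 3, 4]),
  (124, [4, 3, 2, 1, 0, 3, 5, 4, 3, 2, 1, 3, 2, 1, 4, 3, 2, 1, 0, 3, 5, 4, 3, 2, 3, 2, 1, 0, 4, 3, 2, 1, 3, 4]),
  (207, [4, 3, 2, 1, 0, 3, 5, 4, 3, 2, 1, 3, 2, 1, 4, 3, 2, 1, 0, 3, 5, 4, 3, 2, 3, 2, 1, 4, 3, 2, 3, 4]),
  (208, [4, 3, 2, 1, 0, 3, 5, 4, 3, 2, 1, 3, 2, 1, 4, 3, 2, 1, 3, 2, 4, 3, 5, 4, 3, 2, 1, 3, 2, 3, 4]),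
  (209, [4, 3, 2, 1, 0, 3, 2, 1, 4, 3, 2, 1, 3, 2, 1, 4, 3, 2, 1, 3, 2, 5, 4, 3, 2, 1, 3, 2, 4, 3, 5, 4]),
  (210, [4, 3, 2, 1, 3, 2, 1, 3, 4, 3, 2, 1, 3, 2, 3, 4, 3, 2, 1, 3, 2, 1, 3, 4, 3, 2, 1, 3, 2, 3, 4]),
  (333, [4, 3, 5, 4]),
  (334, [4, 3, 2, 5, 4, 3, 2]),
  (340, [4, 3, 2, 5, 4]),
  (994, [4, 3, 2, 5, 4, 3, 2, 1, 0]),
  (2873, [4, 3, 2, 5, 4, 3]),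
  (3373, [4, 3, 2, 5, 4, 3, 2, 1]),
  (3388, [4, 3, 2, 1, 5, 4, 3, 2, 1, 0, 3]),
  (3389, [4, 3, 2, 1, 5, 4, 3, 2, 1, 0]),
  (3429, [4, 3, 2, 1, 0, 5, 4, 3, 2, 3]),
  (3430, [4, 3, 2, 1, 0, 5, 4, 3, 2]),
  (3447, [4, 3, 2, 1, 0, 5, 4]),
  (3448, [4, 3, 2, 1, 0, 5, 4, 3]),
  (3833, [4, 3, 2, 1, 5, 4]),
  (3854, [4, 3, 2, 1, 5, 4, 3]),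
  (3855, [4, 3, 2, 1, 5, 4, 3, 2, 1]),
  (3856, [4, 3, 2, 1, 5, 4, 3, 2]),
  (3857, [4, 3, 2, 1, 5, 4, 3, 2, 1, 3]),
  (3861, [4, 3, 2, 1, 0, 5, 4, 3, 2, 1, 0, 3, 2]),
  (3862, [4, 3, 2, 1, 0, 5, 4, 3, 2, 1, 0, 3, 2, 1]),
  (3863, [4, 3, 2, 1, 0, 5, 4, 3, 2, 1, 3, 2, 3]),
  (3864, [4, 3, 2, 1, 0, 5, 4, 3, 2, 1, 3, 2]),
  (6398, [4, 3, 2, 1, 5, 4, 3, 2, 1, 3, 2]),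
  (6399, [4, 3, 2, 1, 5, 4, 3, 2, 1, 0, 3, 2]),
  (7218, [4, 3, 2, 1, 0, 5, 4, 3, 2, 1, 3]),
  (7365, [4, 3, 2, 1, 0, 5, 4, 3, 2, 1]),
  (7819, [4, 3, 2, 1, 5, 4, 3, 2, 3]),
  (12072, [4, 3, 2, 1, 0, 5, 4, 3, 2, 1, 0]),
  (31434, [4, 3, 2, 1, 0, 5, 4, 3, 2, 1, 0, 3])]

end Cfsg.Agent.ONType.Side
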