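import Cfsg.Agent.Lib.ONType.Side.CentData
import Cfsg.Agent.Lib.ONTable.OrbData

/-!
# The list is complete
-/

set_option autoImplicit false
set_option maxHeartbeats 0
set_option maxRecDepth 100000

noncomputable section

namespace Cfsg.Agent.ONType.Side

open Cfsg.Agent.InvCoset

def inCentW (c : ℕ) : List (ℕ × List ℕ) → Bool
  | [] => false
  | p :: l => Nat.beq p.1 c || inCentW c l

def scanOK (c : ℕ) : Bool :=
  cond (Nat.beq (ONTable.table.tgt c 5) c)
    (cond (Nat.beq (ONTable.orbits.lab c) 2) (Nat.beq c 3 || inCentW c centW) true) true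

def scanAll : ℕ → ℕ → Bool
  | _, 0 => true
  | a, n + 1 => scanOK a && scanAll (Nat.succ a) n

theorem scanAll_spec : ∀ n a, scanAll a n = true → ∀ c, a ≤ c → c < a + n → scanOK c = true := by
  intro n
  induction n with
  | zero => intro a _ c h1 h2; omega
  | succ n ih =>
    intro a h c h1 h2
    rw [scanAll, Bool.and_eq_true] at h
    rcases Nat.eq_or_lt_of_le h1 with e | e
    · exact e ▸ h.1
    · exact ih (Nat.succ a) h.2 c (by omega) (by omega)

theorem scan_part0 : scanAll 0 15345 = true := by decide +kernel
theorem scan_part1 : scanAll 15345 15345 = true := by decide +kernel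
theorem scan_part2 : scanAll 30690 15345 = true := by decide +kernel
theorem scan_part3 : scanAll 46035 15345 = true := by decide +kernel
theorem scan_part4 : scanAll 61380 15345 = true := by decide +kernel
theorem scan_part5 : scanAll 76725 15345 = true := by decide +kernel
theorem scan_part6 : scanAll 92070 15345 = true := by decide +kernel
theorem scan_part7 : scanAll 107415 15345 = true := by decide +kernel

theorem scan_all {c : ℕ} (hc : c < 122760) : scanOK c = true := by
  rcases (show c / 15345 = 0 ∨ c / 15345 = 1 ∨ c / 15345 = 2 ∨ c / 15345 = 3 ∨ c / 15345 = 4 ∨ c / 15345 = 5 ∨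
      c / 15345 = 6 ∨ c / 15345 = 7 by omega) with h | h | h | h | h | h | h | h
  · exact scanAll_spec _ _ scan_part0 c (by omega) (by omega)
  · exact scanAll_spec _ _ scan_part1 c (by omega) (by omega)
  · exact scanAll_spec _ _ scan_part2 c (by omega) (by omega)
  · exact scanAll_spec _ _ scan_part3 c (by omega) (by omega)
  · exact scanAll_spec _ _ scan_part4 c (by omega) (by omega)
  · exact scanAll_spec _ _ scan_part5 c (by omega) (by omega)
  · exact scanAll_spec _ _ scan_part6 c (by omega) (by omega)
  · exact scanAll_spec _ _ scan_part7 c (by omega) (by omega)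

end Cfsg.Agent.ONType.Side
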