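import Cfsg.Agent.Lib.ONType.Side.Order
import Cfsg.Agent.Lib.L34Univ.Variants
import Cfsg.Agent.Lib.Classical.Linear

/-!
# `PSL(3,4)` extended by graph times field automorphism as an image of the centraliser of `f`
-/

set_option autoImplicit false
set_option maxRecDepth 100000
set_option linter.unusedSectionVars false

noncomputable section

namespace Cfsg.Agent.ONType.Side

open Matrix Cfsg.Agent.InvCoset Cfsg.Agent.L34Mult Cfsg.Agent.L34Univ Cfsg.Agent.AutPSL.Basic

universe u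

variable {F : Type u} [Field F] [Fintype F]

local notation "SL3" => Matrix.SpecialLinearGroup (Fin 3) F
local notation "PSL3" => Matrix.ProjectiveSpecialLinearGroup (Fin 3) F

/-- Graph times field. -/
def rho (W : Frame F) : MulAut (Matrix.ProjectiveSpecialLinearGroup (Fin 3) F) := autGraph * autFrob W

theorem rho_isRep (W : Frame F) : IsRep W (rho W) := Or.inr (Or.inr rfl)

/-- The group of order two acting by `rho`. -/
def twist (W : Frame F) : Multiplicative (ZMod 2) →* MulAut (Matrix.ProjectiveSpecialLinearGroup (Fin 3) F) where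
  toFun z := if z = 1 then 1 else rho W
  map_one' := if_pos rfl
  map_mul' y z := by
    have h : ∀ u : Multiplicative (ZMod 2), u = 1 ∨ u = Multiplicative.ofAdd 1 := by decide
    have h1 : ¬ (Multiplicative.ofAdd (1 : ZMod 2) = 1) := by decide
    have h2 : Multiplicative.ofAdd (1 : ZMod 2) * Multiplicative.ofAdd 1 = 1 := by decide
    rcases h y with rfl | rfl <;> rcases h z with rfl | rfl <;> simp [h1, h2, rep_sq (rho_isRep W)]

/-- The extension. -/
abbrev Img (W : Frame F) : Type u :=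
  Matrix.ProjectiveSpecialLinearGroup (Fin 3) F ⋊[twist W] Multiplicative (ZMod 2)

/-- Nine codes. -/
abbrev Nine : Type := Fin 4 × Fin 4 × Fin 4 × Fin 4 × Fin 4 × Fin 4 × Fin 4 × Fin 4 × Fin 4

set_option synthInstance.maxSize 2000 in
instance nine_deceq : DecidableEq Nine := inferInstance

/-- The value of a code. -/
def val4 (W : Frame F) : Fin 4 → F := ![0, 1, W.w, W.w + 1]

def addc : Fin 4 → Fin 4 → Fin 4 := ![![0, 1, 2, 3], ![1, 0, 3, 2], ![2, 3, 0, 1], ![3, 2, 1, 0]]

def mulc : Fin 4 → Fin 4 → Fin 4 := ![![0, 0, 0, 0], ![0, 1, 2, 3], ![0, 2, 3, 1], ![0, 3, 1, 2]]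

def frobc : Fin 4 → Fin 4 := ![0, 1, 3, 2]

theorem val4_add (W : Frame F) : ∀ x y : Fin 4, val4 W (addc x y) = val4 W x + val4 W y := by
  intro x y
  fin_cases x <;> fin_cases y <;> simp [val4, addc] <;> grind [W.two]

theorem val4_mul (W : Frame F) : ∀ x y : Fin 4, val4 W (mulc x y) = val4 W x * val4 W y := by
  intro x y
  fin_cases x <;> fin_cases y <;> simp [val4, mulc] <;> first
    | linear_combination -W.sq
    | linear_combination -W.sq - W.w * W.two
    | linear_combination -W.sq - W.w * W.two - W.two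

theorem val4_frob (W : Frame F) (x : Fin 4) : val4 W (frobc x) = val4 W x * val4 W x := by
  rw [← val4_mul]
  congr 1
  revert x
  decide

def mat9 (W : Frame F) : Nine → Matrix (Fin 3) (Fin 3) F
  | (a, b, c, d, e, f, g, h, i) =>
    !![val4 W a, val4 W b, val4 W c; val4 W d, val4 W e, val4 W f; val4 W g, val4 W h, val4 W i]

def dot3 (a b c a' b' c' : Fin 4) : Fin 4 := addc (addc (mulc a a') (mulc b b')) (mulc c c')

def mul9 : Nine → Nine → Nine
  | (a, b, c, d, e, f, g, h, i), (a', b', c', d', e', f', g', h', i') =>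
    (dot3 a b c a' d' g', dot3 a b c b' e' h', dot3 a b c c' f' i',
     dot3 d e f a' d' g', dot3 d e f b' e' h', dot3 d e f c' f' i',
     dot3 g h i a' d' g', dot3 g h i b' e' h', dot3 g h i c' f' i')

theorem mat9_mul (W : Frame F) : ∀ x y : Nine, mat9 W (mul9 x y) = mat9 W x * mat9 W y
  | (a, b, c, d, e, f, g, h, i), (a', b', c', d', e', f', g', h', i') => by
    ext p q
    fin_cases p <;> fin_cases q <;>
      simp [mat9, mul9, dot3, val4_add, val4_mul, Matrix.mul_apply, Fin.sum_univ_three]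

def one9 : Nine := (1, 0, 0, 0, 1, 0, 0, 0, 1)

theorem mat9_one (W : Frame F) : mat9 W one9 = 1 := by
  ext p q
  fin_cases p <;> fin_cases q <;> simp [mat9, one9, val4]

/-- Frobenius and transposition along the antidiagonal. -/
def flip9 : Nine → Nine
  | (a, b, c, d, e, f, g, h, i) =>
    (frobc i, frobc f, frobc c, frobc h, frobc e, frobc b, frobc g, frobc d, frobc a)

theorem mat9_flip (W : Frame F) : ∀ x : Nine,
    mat9 W (flip9 x) = ((antidiag : GL (Fin 3) F) : Matrix (Fin 3) (Fin 3) F) *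
      ((mat9 W x).map (frobRing W))ᵀ * ((antidiag⁻¹ : GL (Fin 3) F) : Matrix (Fin 3) (Fin 3) F)
  | (a, b, c, d, e, f, g, h, i) => by
    ext p q
    fin_cases p <;> fin_cases q <;>
      simp [mat9, flip9, antidiag, val4_frob, frobRing_apply, Matrix.mul_apply, Matrix.vecMul, dotProduct,
        Matrix.transpose_apply, Fin.sum_univ_three]

def smul9 (k : Fin 4) : Nine → Nine
  | (a, b, c, d, e, f, g, h, i) =>
    (mulc k a, mulc k b, mulc k c, mulc k d, mulc k e, mulc k f, mulc k g, mulc k h, mulc k i)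

theorem mat9_smul (W : Frame F) (k : Fin 4) : ∀ x : Nine, mat9 W (smul9 k x) = val4 W k • mat9 W x
  | (a, b, c, d, e, f, g, h, i) => by
    ext p q
    fin_cases p <;> fin_cases q <;> simp [mat9, smul9, val4_mul]

/-- A matrix, its inverse, and the outer part. -/
abbrev El : Type := Nine × Nine × Bool

def oneEl : El := (one9, one9, false)

def mulEl : El → El → El
  | (A, B, true), (A', B', q) => (mul9 A (flip9 B'), mul9 (flip9 A') B, !q)
  | (A, B, false), (A', B', q) => (mul9 A A', mul9 B' B, q)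

def outer : Bool → Multiplicative (ZMod 2)
  | true => Multiplicative.ofAdd 1
  | false => 1

/-- A code represents an element. -/
def Codes (W : Frame F) (c : El) (x : Img W) : Prop :=
  ∃ s : SL3, (s : Matrix (Fin 3) (Fin 3) F) = mat9 W c.1 ∧
    ((s⁻¹ : SL3) : Matrix (Fin 3) (Fin 3) F) = mat9 W c.2.1 ∧ x = ⟨QuotientGroup.mk s, outer c.2.2⟩

theorem codes_one (W : Frame F) : Codes W oneEl 1 :=
  ⟨1, (mat9_one W).symm, by rw [inv_one]; exact (mat9_one W).symm, rfl⟩

theorem codes_mul (W : Frame F) : ∀ {c c' : El} {x x' : Img W}, Codes W c x → Codes W c' x' →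
    Codes W (mulEl c c') (x * x') := by
  rintro ⟨A, B, q⟩ ⟨A', B', q'⟩ x x' ⟨s, hs, hs', rfl⟩ ⟨t, ht, ht', rfl⟩
  dsimp only at hs hs' ht ht'
  cases q
  · refine ⟨s * t, ?_, ?_, ?_⟩
    · show _ = mat9 W (mul9 A A')
      rw [Matrix.SpecialLinearGroup.coe_mul, hs, ht, mat9_mul]
    · show _ = mat9 W (mul9 B' B)
      rw [_root_.mul_inv_rev, Matrix.SpecialLinearGroup.coe_mul, hs', ht', mat9_mul]
    · refine SemidirectProduct.ext ?_ ?_
      · show QuotientGroup.mk s * (twist W (outer false)) (QuotientGroup.mk t) = _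
        rw [show twist W (outer false) = 1 from map_one _, MulAut.one_apply]
        rfl
      · exact one_mul _
  · let σ : MulAut SL3 := conjSL antidiag * (iotaSL * fieldSL (frobRing W))
    have hσ : ∀ (u : SL3) (C : Nine), ((u⁻¹ : SL3) : Matrix (Fin 3) (Fin 3) F) = mat9 W C →
        ((σ u : SL3) : Matrix (Fin 3) (Fin 3) F) = mat9 W (flip9 C) := fun u C hu => by
      show ((conjSL antidiag (iotaSL (fieldSL (frobRing W) u)) : SL3) : Matrix (Fin 3) (Fin 3) F) = _
      rw [mat9_flip, conjSL_coe, iotaSL_coe, ← map_inv, fieldSL_coe, hu]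
    refine ⟨s * σ t, ?_, ?_, ?_⟩
    · show _ = mat9 W (mul9 A (flip9 B'))
      rw [Matrix.SpecialLinearGroup.coe_mul, hs, hσ t B' ht', mat9_mul]
    · show _ = mat9 W (mul9 (flip9 A') B)
      rw [_root_.mul_inv_rev, Matrix.SpecialLinearGroup.coe_mul, hs', ← map_inv,
        hσ t⁻¹ A' (by rw [inv_inv]; exact ht), mat9_mul]
    · refine SemidirectProduct.ext ?_ ?_
      · show QuotientGroup.mk s * (twist W (outer true)) (QuotientGroup.mk t) = _
        have h1 : ¬ (Multiplicative.ofAdd (1 : ZMod 2) = 1) := by decide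
        rw [show twist W (outer true) = rho W from if_neg (t := (1 : MulAut PSL3)) h1]
        rfl
      · show Multiplicative.ofAdd (1 : ZMod 2) * outer q' = outer (!q')
        cases q' <;> decide

/-- The codes of the letters. -/
def gEl : ℕ → El
  | 0 => ((0, 0, 1, 0, 1, 0, 1, 0, 0), (0, 0, 1, 0, 1, 0, 1, 0, 0), false)
  | 1 => ((0, 0, 1, 1, 2, 3, 3, 0, 0), (0, 0, 2, 2, 3, 1, 1, 0, 0), false)
  | 2 => ((0, 0, 1, 2, 1, 2, 1, 0, 0), (0, 0, 1, 2, 1, 2, 1, 0, 0), false)
  | 3 => ((0, 1, 1, 1, 1, 1, 1, 1, 0), (1, 1, 0, 1, 1, 1, 0, 1, 1), true)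
  | 5 => ((1, 0, 0, 0, 1, 0, 0, 0, 1), (1, 0, 0, 0, 1, 0, 0, 0, 1), false)
  | 6 => ((1, 0, 2, 0, 3, 0, 2, 0, 1), (3, 0, 1, 0, 2, 0, 1, 0, 3), true)
  | 7 => ((1, 0, 3, 0, 2, 0, 3, 0, 1), (2, 0, 1, 0, 3, 0, 1, 0, 2), true)
  | _ => oneEl

theorem gEl_inv : ∀ x < 8, mul9 (gEl x).1 (gEl x).2.1 = one9 ∧
    (x = 4 → (gEl x).2.2 = false) := by decide +kernel

theorem det_gEl (W : Frame F) : ∀ x < 8, (mat9 W (gEl x).1).det = 1 := by
  intro x hx
  interval_cases x <;>
    (simp [gEl, oneEl, one9, mat9, val4, Matrix.det_fin_three]) <;> grind [W.two, W.sq]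

/-- The images of the letters. -/
def xE (W : Frame F) (x : ℕ) : Img W :=
  if hx : x < 8 then
    ⟨QuotientGroup.mk (⟨mat9 W (gEl x).1, det_gEl W x hx⟩ : SL3), outer (gEl x).2.2⟩
  else 1

theorem codes_letter (W : Frame F) (x : ℕ) (hx : x < 8) : Codes W (gEl x) (xE W x) := by
  refine ⟨⟨mat9 W (gEl x).1, det_gEl W x hx⟩, rfl, ?_, dif_pos hx⟩
  set s : SL3 := ⟨mat9 W (gEl x).1, det_gEl W x hx⟩
  have h := congrArg (mat9 W) (gEl_inv x hx).1
  rw [mat9_mul, mat9_one] at h
  calc ((s⁻¹ : SL3) : Matrix (Fin 3) (Fin 3) F)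
      = ((s⁻¹ : SL3) : Matrix (Fin 3) (Fin 3) F) * ((s : Matrix (Fin 3) (Fin 3) F) * mat9 W (gEl x).2.1) := by
        rw [show (s : Matrix (Fin 3) (Fin 3) F) = mat9 W (gEl x).1 from rfl, h, mul_one]
    _ = mat9 W (gEl x).2.1 := by
        rw [← mul_assoc, ← Matrix.SpecialLinearGroup.coe_mul, inv_mul_cancel,
          Matrix.SpecialLinearGroup.coe_one, one_mul]

def evalEl : List ℕ → El
  | [] => oneEl
  | y :: w => mulEl (gEl y) (evalEl w)

theorem codes_word (W : Frame F) : ∀ w : List ℕ, (∀ y ∈ w, y < 8) → Codes W (evalEl w) (prodE (xE W) w)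
  | [], _ => codes_one W
  | y :: w, h => codes_mul W (codes_letter W y (h y List.mem_cons_self))
      (codes_word W w fun z hz => h z (List.mem_cons_of_mem _ hz))

/-- A code of the identity. -/
def trivEl (c : El) : Bool :=
  !c.2.2 && (decide (c.1 = one9) || decide (c.1 = smul9 2 one9) || decide (c.1 = smul9 3 one9))

theorem trivEl_spec (W : Frame F) {c : El} {x : Img W} (hc : Codes W c x) (h : trivEl c = true) : x = 1 := by
  obtain ⟨s, hs, -, rfl⟩ := hc
  simp only [trivEl, Bool.and_eq_true, Bool.not_eq_true', Bool.or_eq_true, decide_eq_true_eq] at h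
  rw [h.1]
  refine SemidirectProduct.ext ?_ rfl
  show (QuotientGroup.mk s : PSL3) = 1
  rw [mk_eq_one_iff]
  rcases h.2 with (e | e) | e
  · exact ⟨1, by rw [hs, e, mat9_one, one_smul]⟩
  · exact ⟨val4 W 2, by rw [hs, e, mat9_smul, mat9_one]⟩
  · exact ⟨val4 W 3, by rw [hs, e, mat9_smul, mat9_one]⟩

theorem xE_triv (W : Frame F) {w : List ℕ} (hw : ∀ y ∈ w, y < 8) (h : trivEl (evalEl w) = true) :
    prodE (xE W) w = 1 :=
  trivEl_spec W (codes_word W w hw) h

theorem wordsK_img : wordsK.all (fun w => trivEl (evalEl w)) = true := by decide +kernel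

theorem xE_words (W : Frame F) : ∀ w ∈ wordsK, prodE (xE W) w = 1 := fun w hw =>
  xE_triv W (wordsK_lt w hw) (List.all_eq_true.mp wordsK_img w hw)

theorem sq_words : ∀ x < 8, trivEl (evalEl [x, ivL ONTable.iv x]) = true := by decide +kernel

theorem xE_paired (W : Frame F) : Paired 8 ONTable.iv (xE W) := by
  refine ⟨fun x hx => ONGroup.let8_paired.lt x hx, fun x hx => ?_⟩
  have h := xE_triv W (w := [x, ivL ONTable.iv x]) (fun y hy => by
    rcases List.mem_cons.mp hy with rfl | hy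
    · exact hx
    · rw [List.mem_singleton] at hy
      exact hy ▸ ONGroup.let8_paired.lt x hx) (sq_words x hx)
  simp only [prodE, mul_one] at h
  exact eq_inv_of_mul_eq_one_right h

/-- Words for elementary transvections. -/
def elemWords : List (Fin 3 × Fin 3 × Fin 4 × List ℕ) := [
  (0, 1, 1, [1, 2, 3, 6, 1, 2, 1, 3, 2, 1, 6, 1, 2]),
  (0, 1, 2, [1, 2, 6, 1, 2, 3, 2, 1, 3, 2, 6, 1, 2]),
  (0, 2, 1, [1, 2, 3, 6, 1, 0, 2, 1, 3, 2, 6, 1, 2]),
  (0, 2, 2, [2, 1, 3, 6, 1, 0, 2, 1, 3, 2, 6]),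
  (1, 0, 1, [1, 3, 2, 1, 3, 6, 2, 1, 3, 2, 7, 1, 6]),
  (1, 0, 2, [0, 3, 2, 1, 3, 7, 2, 1, 7, 2, 1, 3, 2, 3]),
  (1, 2, 1, [7, 1, 2, 3, 6, 1, 2, 1, 3, 7, 2, 1, 6]),
  (1, 2, 2, [0, 3, 2, 1, 3, 2, 6, 1, 2, 3, 6, 1, 2, 3]),
  (2, 0, 1, [0, 1, 2, 3, 6, 1, 0, 2, 1, 3, 2, 6, 1, 0, 2]),
  (2, 0, 2, [6, 2, 1, 3, 6, 2, 3, 7, 1, 2, 7]),
  (2, 1, 1, [1, 6, 1, 2, 1, 3, 6, 1, 2, 1, 3, 2, 3, 7]),
  (2, 1, 2, [1, 2, 1, 3, 7, 1, 2, 3, 2, 6, 1, 2, 3, 7])]

def elem9 (i j : Fin 3) (k : Fin 4) : Nine :=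
  let v : Fin 3 → Fin 3 → Fin 4 := fun p q => if p = q then 1 else if p = i ∧ q = j then k else 0
  (v 0 0, v 0 1, v 0 2, v 1 0, v 1 1, v 1 2, v 2 0, v 2 1, v 2 2)

theorem mat9_elem (W : Frame F) {i j : Fin 3} (h : i ≠ j) (k : Fin 4) :
    mat9 W (elem9 i j k) = (Matrix.SpecialLinearGroup.transvection h (val4 W k) : SL3) := by
  rw [Matrix.SpecialLinearGroup.transvection_coe]
  ext p q
  fin_cases i <;> fin_cases j <;> first | exact absurd rfl h |
    (fin_cases p <;> fin_cases q <;> simp [mat9, elem9, val4, Matrix.single, Matrix.one_apply])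

def elemChk (t : Fin 3 × Fin 3 × Fin 4 × List ℕ) : Bool :=
  let c := evalEl t.2.2.2
  let m := elem9 t.1 t.2.1 t.2.2.1
  !c.2.2 && t.2.2.2.all (fun y => Nat.blt y 8 && !Nat.beq y 4) &&
    (decide (c.1 = m) || decide (c.1 = smul9 2 m) || decide (c.1 = smul9 3 m))

theorem elem_ok : elemWords.all elemChk = true := by decide +kernel

theorem elem_cover : ∀ i j : Fin 3, i ≠ j → ∀ k : Fin 4, k = 1 ∨ k = 2 →
    elemWords.any (fun t => decide (t.1 = i) && decide (t.2.1 = j) && decide (t.2.2.1 = k)) = true := by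
  decide +kernel

/-- The seven letters. -/
def sevenL : List ℕ := [0, 1, 2, 3, 5, 6, 7]

theorem elem_mem (W : Frame F) {i j : Fin 3} (h : i ≠ j) {k : Fin 4} (hk : k = 1 ∨ k = 2) :
    (SemidirectProduct.inl (QuotientGroup.mk (Matrix.SpecialLinearGroup.transvection h (val4 W k) : SL3)) : Img W) ∈
      spanL (xE W) sevenL := by
  obtain ⟨t, ht, he⟩ := List.any_eq_true.mp (elem_cover i j h k hk)
  simp only [Bool.and_eq_true, decide_eq_true_eq] at he
  obtain ⟨⟨rfl, rfl⟩, rfl⟩ := he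
  have hok := List.all_eq_true.mp elem_ok t ht
  simp only [elemChk, Bool.and_eq_true, Bool.not_eq_true', List.all_eq_true, Bool.or_eq_true,
    decide_eq_true_eq] at hok
  obtain ⟨⟨hpar, hl⟩, hm⟩ := hok
  have hlt : ∀ y ∈ t.2.2.2, y < 8 := fun y hy => by simpa [Nat.blt] using (hl y hy).1
  have hmem : prodE (xE W) t.2.2.2 ∈ spanL (xE W) sevenL := by
    have hall : ∀ y ∈ t.2.2.2, y ∈ sevenL := fun y hy => by
      have h4 : y ≠ 4 := fun e => by have := (hl y hy).2; simp [e] at this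
      have := hlt y hy
      simp only [sevenL, List.mem_cons, List.not_mem_nil, or_false]
      omega
    generalize t.2.2.2 = v at hall
    induction v with
    | nil => exact one_mem _
    | cons y v ih =>
      exact mul_mem (mem_spanL _ (hall y List.mem_cons_self)) (ih fun z hz => hall z (List.mem_cons_of_mem _ hz))
  obtain ⟨s, hs, -, hx⟩ := codes_word W _ hlt
  rw [hx, hpar] at hmem
  convert hmem using 1
  refine SemidirectProduct.ext ?_ rfl
  show (QuotientGroup.mk _ : PSL3) = QuotientGroup.mk s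
  rw [mk_eq_mk_iff]
  rcases hm with (e | e) | e
  · exact ⟨1, by rw [hs, e, mat9_elem W h, one_smul]⟩
  · exact ⟨val4 W 2, by rw [hs, e, mat9_smul, mat9_elem W h]⟩
  · exact ⟨val4 W 3, by rw [hs, e, mat9_smul, mat9_elem W h]⟩

theorem inl_mem (W : Frame F) (p : PSL3) : (SemidirectProduct.inl p : Img W) ∈ spanL (xE W) sevenL := by
  obtain ⟨s, rfl⟩ := QuotientGroup.mk_surjective p
  let q : SL3 →* Img W := SemidirectProduct.inl.comp (QuotientGroup.mk' _)
  have hle : Subgroup.closure (Classical.Linear.transvectionSet (Fin 3) F) ≤ (spanL (xE W) sevenL).comap q := by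
    rw [Subgroup.closure_le]
    rintro g ⟨i, j, h, c, rfl⟩
    show q _ ∈ spanL (xE W) sevenL
    rcases W.cases c with rfl | rfl | rfl | rfl
    · rw [Matrix.SpecialLinearGroup.transvection_coeff_zero, map_one]; exact one_mem _
    · exact elem_mem W h (k := 1) (Or.inl rfl)
    · exact elem_mem W h (k := 2) (Or.inr rfl)
    · rw [Matrix.SpecialLinearGroup.transvection_add, map_mul]
      exact mul_mem (elem_mem W h (k := 2) (Or.inr rfl)) (elem_mem W h (k := 1) (Or.inl rfl))
  exact hle (by rw [Classical.Linear.closure_transvectionSet]; exact Subgroup.mem_top s)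

theorem span_top (W : Frame F) : spanL (xE W) sevenL = ⊤ := by
  rw [eq_top_iff]
  intro x _
  obtain ⟨s, -, -, hd⟩ := codes_letter W 3 (by norm_num)
  have h3 : xE W 3 ∈ spanL (xE W) sevenL := mem_spanL _ (by decide)
  have hu : ∀ u : Multiplicative (ZMod 2), u = 1 ∨ u = Multiplicative.ofAdd 1 := by decide
  rw [← SemidirectProduct.inl_left_mul_inr_right x]
  refine mul_mem (inl_mem W _) ?_
  rcases hu x.right with e | e <;> rw [e]
  · rw [map_one]; exact one_mem _
  · have hr : (SemidirectProduct.inr (Multiplicative.ofAdd 1) : Img W) =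
        (SemidirectProduct.inl (QuotientGroup.mk s : PSL3))⁻¹ * xE W 3 := by
      rw [hd, SemidirectProduct.mk_eq_inl_mul_inr, inv_mul_cancel_left]
      rfl
    rw [hr]
    exact mul_mem (inv_mem (inl_mem W _)) h3

end Cfsg.Agent.ONType.Side
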