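import Cfsg.Agent.Lib.ONType.Side.Tables

/-!
# A group generated by letters with these relations has at most 161280 elements
-/

set_option autoImplicit false
set_option maxRecDepth 100000

noncomputable section

namespace Cfsg.Agent.ONType.Side

open Cfsg.Agent.InvCoset

variable {A : Type*} [Group A] (e : ℕ → A)

/-- The letters of the tables. -/
def eK : ℕ → A := fun x => e (toON x)

theorem eK_paired (hp : Paired 8 ONTable.iv e) {K iv : ℕ} (hK : K ≤ 7)
    (hiv : ∀ x < K, ivL iv x < K ∧ toON (ivL iv x) = ivL ONTable.iv (toON x)) : Paired K iv (eK e) := by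
  refine ⟨fun x hx => (hiv x hx).1, fun x hx => ?_⟩
  show e (toON (ivL iv x)) = (e (toON x))⁻¹
  rw [(hiv x hx).2]
  exact hp.inv _ (by revert hx; intro hx; rcases x with _|_|_|_|_|_|_|x <;> simp [toON] <;> omega)

theorem eK_words {R : List (List ℕ)} (hW : ∀ w ∈ wordsK, prodE e w = 1)
    (h : subOf (R.map (List.map toON)) wordsK = true) : ∀ w ∈ R, prodE (eK e) w = 1 := fun w hw => by
  unfold eK
  rw [prodE_toON]
  exact hW _ (subOf_spec h _ (List.mem_map.mpr ⟨w, hw, rfl⟩))

theorem seed_mem {l : List ℕ} {s : ℕ × ℕ × List ℕ} {x : ℕ} (hs : s.2.2 = [x]) (hx : x ∈ l) :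
    prodE (eK e) s.2.2 ∈ spanL (eK e) l := by
  rw [hs, prodE, prodE, mul_one]
  exact mem_spanL _ hx

theorem small_K (hp : Paired 8 ONTable.iv e) (hW : ∀ w ∈ wordsK, prodE e w = 1) :
    Small (spanL e [0, 1, 2, 3, 5, 6, 7]) 161280 := by
  have h0 : Small (spanL (eK e) (List.range 3)) 8 :=
    Small.step certified0 (eK e) (eK_paired e hp (by decide) (by decide +kernel)) (eK_words e hW rel0_sub)
      (small_bot (G := A)) bot_le (fun s hs => by simp [seeds0] at hs)
  have h1 : Small (spanL (eK e) (List.range 4)) (9 * 8) :=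
    Small.step certified1 (eK e) (eK_paired e hp (by decide) (by decide +kernel)) (eK_words e hW rel1_sub)
      h0 (spanL_mono _ (by decide)) (fun s hs => by
        simp only [seeds1, List.mem_cons, List.not_mem_nil, or_false] at hs
        rcases hs with rfl | rfl <;> exact seed_mem e rfl (by decide))
  have h2 : Small (spanL (eK e) (List.range 5)) (20 * (9 * 8)) :=
    Small.step certified2 (eK e) (eK_paired e hp (by decide) (by decide +kernel)) (eK_words e hW rel2_sub)
      h1 (spanL_mono _ (by decide)) (fun s hs => by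
        simp only [seeds2, List.mem_cons, List.not_mem_nil, or_false] at hs
        rcases hs with rfl | rfl | rfl <;> exact seed_mem e rfl (by decide))
  have h3 : Small (spanL (eK e) (List.range 7)) (112 * (20 * (9 * 8))) :=
    Small.step certified3 (eK e) (eK_paired e hp (by decide) (by decide +kernel)) (eK_words e hW rel3_sub)
      h2 (spanL_mono _ (by decide)) (fun s hs => by
        simp only [seeds3, List.mem_cons, List.not_mem_nil, or_false] at hs
        rcases hs with rfl | rfl | rfl | rfl <;> exact seed_mem e rfl (by decide))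
  refine h3.congr ?_
  unfold spanL eK
  congr 1
  rw [← Set.image_image e toON]
  congr 1
  ext y
  simp only [Set.mem_image, Set.mem_setOf_eq, List.mem_range, List.mem_cons, List.not_mem_nil, or_false]
  constructor
  · rintro ⟨x, hx, rfl⟩
    interval_cases x <;> simp [toON]
  · rintro (rfl | rfl | rfl | rfl | rfl | rfl | rfl)
    exacts [⟨0, by norm_num, rfl⟩, ⟨3, by norm_num, rfl⟩, ⟨4, by norm_num, rfl⟩, ⟨5, by norm_num, rfl⟩,
      ⟨6, by norm_num, rfl⟩, ⟨1, by norm_num, rfl⟩, ⟨2, by norm_num, rfl⟩]

end Cfsg.Agent.ONType.Side
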