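import Cfsg.Agent.Lib.ONType.Side.Model

/-!
# Graph times field is not inner on `PSL(3,4)`
-/

set_option autoImplicit false
set_option linter.unusedSectionVars false

noncomputable section

namespace Cfsg.Agent.ONType.Side

open Matrix Cfsg.Agent.L34Mult Cfsg.Agent.L34Univ Cfsg.Agent.AutPSL.Basic Cfsg.Agent.Perm.L34Cover

universe u

variable {F : Type u} [Field F] [Fintype F]

local notation "SL3" => Matrix.SpecialLinearGroup (Fin 3) F
local notation "PSL3" => Matrix.ProjectiveSpecialLinearGroup (Fin 3) F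

theorem rho_lines (W : Frame F) : rho W (p12 1) = (p23 1 : PSL3) ∧ rho W (p23 1) = (p12 1 : PSL3) := by
  have h1 := autFrob_lines W (1 : F)
  rw [one_mul] at h1
  exact ⟨by rw [rho, MulAut.mul_apply, h1.1, (autGraph_lines W 1).1],
    by rw [rho, MulAut.mul_apply, h1.2.1, (autGraph_lines W 1).2.1]⟩

theorem rho_not_inner (W : Frame F) (p : PSL3) : ¬ ∀ l : PSL3, p * rho W l * p⁻¹ = l := by
  intro h
  obtain ⟨P, rfl⟩ := QuotientGroup.mk_surjective p
  have hd : (P : Matrix (Fin 3) (Fin 3) F).det = 1 := P.2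
  have hA := mul_inv_eq_iff_eq_mul.1 (h (p12 1))
  have hB := mul_inv_eq_iff_eq_mul.1 (h (p23 1))
  rw [(rho_lines W).1] at hA
  rw [(rho_lines W).2] at hB
  simp only [p12, p23, ← QuotientGroup.mk_mul] at hA hB
  obtain ⟨c, hc⟩ := (mk_eq_mk_iff _ _).1 hA
  obtain ⟨k, hk⟩ := (mk_eq_mk_iff _ _).1 hB
  have a : ∀ i j, _ := fun i j => congrFun (congrFun hc i) j
  have b : ∀ i j, _ := fun i j => congrFun (congrFun hk i) j
  have a00 := a 0 0; have a01 := a 0 1; have a02 := a 0 2
  have a10 := a 1 0; have a11 := a 1 1; have a12 := a 1 2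
  have a20 := a 2 0; have a21 := a 2 1; have a22 := a 2 2
  have b00 := b 0 0; have b01 := b 0 1; have b02 := b 0 2
  have b10 := b 1 0; have b11 := b 1 1; have b12 := b 1 2
  have b20 := b 2 0; have b21 := b 2 1; have b22 := b 2 2
  simp [rowE_coe, colE_coe, Matrix.mul_apply, Fin.sum_univ_three, Matrix.smul_apply] at a00 a01 a02 a10 a11 a12 a20 a21 a22 b00 b01 b02 b10 b11 b12 b20 b21 b22
  rw [Matrix.det_fin_three] at hd
  have hc1 : c = 1 := by
    by_contra hne
    have hne' : c - 1 ≠ 0 := sub_ne_zero.2 hne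
    have e0 : P.1 1 0 = 0 :=
      (mul_eq_zero.1 (show (c - 1) * P.1 1 0 = 0 by linear_combination -a10)).resolve_left hne'
    have e1 : P.1 1 1 = 0 :=
      (mul_eq_zero.1 (show (c - 1) * P.1 1 1 = 0 by linear_combination -a11)).resolve_left hne'
    have e2 : P.1 1 2 = 0 :=
      (mul_eq_zero.1 (show (c - 1) * P.1 1 2 = 0 by linear_combination -a12 - c * e1)).resolve_left hne'
    exact zero_ne_one (by linear_combination hd - (P.1 0 2 * P.1 2 1 - P.1 0 1 * P.1 2 2) * e0
      - (P.1 0 0 * P.1 2 2 - P.1 0 2 * P.1 2 0) * e1 - (P.1 0 1 * P.1 2 0 - P.1 0 0 * P.1 2 1) * e2 :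
        (0 : F) = 1)
  have hk1 : k = 1 := by
    by_contra hne
    have hne' : k - 1 ≠ 0 := sub_ne_zero.2 hne
    have e2 : P.1 2 0 = 0 :=
      (mul_eq_zero.1 (show (k - 1) * P.1 2 0 = 0 by linear_combination -b20)).resolve_left hne'
    have e0 : P.1 0 0 = 0 :=
      (mul_eq_zero.1 (show (k - 1) * P.1 0 0 = 0 by linear_combination -b00)).resolve_left hne'
    have e1 : P.1 1 0 = 0 :=
      (mul_eq_zero.1 (show (k - 1) * P.1 1 0 = 0 by linear_combination -b10 + e2)).resolve_left hne'
    exact zero_ne_one (by linear_combination hd - (P.1 1 1 * P.1 2 2 - P.1 1 2 * P.1 2 1) * e0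
      - (P.1 0 2 * P.1 2 1 - P.1 0 1 * P.1 2 2) * e1 - (P.1 0 1 * P.1 1 2 - P.1 0 2 * P.1 1 1) * e2 :
        (0 : F) = 1)
  subst hc1 hk1
  simp only [one_mul] at a00 a01 a02 a10 a11 a12 a20 a21 a22 b00 b01 b02 b10 b11 b12 b20 b21 b22
  have e1 : P.1 1 0 = 0 := by linear_combination a00
  have e2 : P.1 2 0 = 0 := by linear_combination b10
  have e0 : P.1 0 0 = 0 := by linear_combination -b01
  exact zero_ne_one (by linear_combination hd - (P.1 1 1 * P.1 2 2 - P.1 1 2 * P.1 2 1) * e0
      - (P.1 0 2 * P.1 2 1 - P.1 0 1 * P.1 2 2) * e1 - (P.1 0 1 * P.1 1 2 - P.1 0 2 * P.1 1 1) * e2 :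
        (0 : F) = 1)

/-- The centraliser of the normal copy of `PSL(3,4)` is trivial. -/
theorem img_cent (W : Frame F) {x : Img W}
    (h : ∀ l : PSL3, x * SemidirectProduct.inl l = SemidirectProduct.inl l * x) : x = 1 := by
  have hl : ∀ l : PSL3, x.left * twist W x.right l = l * x.left := fun l => by
    have := congrArg SemidirectProduct.left (h l)
    simpa using this
  have hu : ∀ u : Multiplicative (ZMod 2), u = 1 ∨ u = Multiplicative.ofAdd 1 := by decide
  rcases hu x.right with e | e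
  · refine SemidirectProduct.ext ?_ e
    have hm : x.left ∈ Subgroup.center PSL3 := Subgroup.mem_center_iff.2 fun l => by
      have := hl l
      rw [e, map_one, MulAut.one_apply] at this
      exact this.symm
    rwa [center_psl, Subgroup.mem_bot] at hm
  · refine absurd (fun l => ?_) (rho_not_inner W x.left)
    have h1 : ¬ (Multiplicative.ofAdd (1 : ZMod 2) = 1) := by decide
    have := hl l
    rw [e, show twist W (Multiplicative.ofAdd 1) = rho W from if_neg (t := (1 : MulAut PSL3)) h1] at this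
    rw [this, mul_inv_cancel_right]

end Cfsg.Agent.ONType.Side
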