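import Cfsg.Agent.Lib.ONType.Side.SylowData
import Cfsg.Agent.Lib.ONGroup.Simple

/-!
# Checks of the table of the Sylow 2-subgroup
-/

set_option autoImplicit false
set_option maxRecDepth 100000
set_option maxHeartbeats 0

noncomputable section

namespace Cfsg.Agent.ONType.Side

open Cfsg.Agent.InvCoset Cfsg.Agent.ONGroup

def sylWord (i : ℕ) : List ℕ := lnth (sylAll.map Prod.fst) i

def nextsOK (w : List ℕ) : List (List ℕ) → List ℕ → Bool
  | [], [] => true
  | g :: gs, n :: ns =>
    Nat.blt n 512 && fixesThree (w ++ (g ++ invW ONTable.iv (sylWord n))) && nextsOK w gs ns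
  | _, _ => false

/-- Trivial, not of order two, or conjugate to `f`. -/
def invOK (w u : List ℕ) : Bool :=
  fixesThree w || (inRange 8 (w ++ w) && !fixesThree (w ++ w)) ||
    (inRange 8 u && fixesThree (u ++ ([5] ++ (invW ONTable.iv u ++ invW ONTable.iv w))))

def rowOK (r : List ℕ × List ℕ × List ℕ) : Bool :=
  inRange 8 r.1 && nextsOK r.1 sylGens r.2.1 && invOK r.1 r.2.2

theorem syl0_ok : syl0.all rowOK = true := by decide +kernel
theorem syl1_ok : syl1.all rowOK = true := by decide +kernel
theorem syl2_ok : syl2.all rowOK = true := by decide +kernel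
theorem syl3_ok : syl3.all rowOK = true := by decide +kernel
theorem syl4_ok : syl4.all rowOK = true := by decide +kernel
theorem syl5_ok : syl5.all rowOK = true := by decide +kernel
theorem syl6_ok : syl6.all rowOK = true := by decide +kernel
theorem syl7_ok : syl7.all rowOK = true := by decide +kernel

theorem sylAll_ok : sylAll.all rowOK = true := by
  simp only [sylAll, List.all_append, syl0_ok, syl1_ok, syl2_ok, syl3_ok, syl4_ok, syl5_ok, syl6_ok, syl7_ok,
    Bool.and_self]

theorem sylAll_length : sylAll.length = 512 := by decide +kernel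

theorem sylOne_ok : fixesThree (sylWord sylOne) = true := by decide +kernel

theorem sylOne_lt : sylOne < 512 := by decide +kernel

/-- The images of the three rows, packed. -/
def rowKey (w : List ℕ) : ℕ :=
  ONTable.table.runW w 0 * 68719476736 + (ONTable.table.runW w 3 * 262144 + ONTable.table.runW w 113129)

def incr : ℕ → List ℕ → Bool
  | _, [] => true
  | a, k :: l => Nat.blt a k && incr k l

/-- The keys, shifted by one. -/
theorem keys_incr : incr 0 (sylAll.map fun r => rowKey r.1 + 1) = true := by decide +kernel

end Cfsg.Agent.ONType.Side
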