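import Cfsg.Agent.Lib.ONGroup.Simple

/-!
# Words trivial in the O'Nan group on the letters of the centraliser of `f`
-/

set_option autoImplicit false
set_option maxRecDepth 100000

noncomputable section

namespace Cfsg.Agent.ONType.Side

open Cfsg.Agent.InvCoset

/-- The seven letters in the order used by the tables: `a g G b c d f`. -/
def toON : ℕ → ℕ
  | 0 => 0
  | 1 => 6
  | 2 => 7
  | 3 => 1
  | 4 => 2
  | 5 => 3
  | 6 => 5
  | x => x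

/-- Relations among `a b c d f g`. -/
def wordsK : List (List ℕ) := [[0, 1, 0, 1, 0, 1],
  [0, 2, 0, 2],
  [0, 3, 0, 3],
  [0, 5, 0, 5],
  [1, 2, 1, 2, 1, 2],
  [1, 3, 1, 3],
  [1, 5, 1, 5],
  [2, 3, 2, 3, 2, 3, 2, 3, 2, 3, 2, 3, 2, 3, 2, 3],
  [2, 5, 2, 5],
  [3, 5, 3, 5],
  [0, 5, 7, 7],
  [0, 5, 3, 2, 3, 2, 3, 2, 3, 2],
  [2, 7, 3, 7, 3, 2, 3, 6, 3, 6],
  [3, 7, 2, 7, 2, 3, 2, 6, 2, 6],
  [1, 2, 3, 6, 1, 2, 3, 6, 1, 2, 3, 6, 1, 2, 3, 6, 1, 2, 3, 6],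
  [6, 1, 2, 6, 2, 1, 6, 1, 2, 6, 2],
  [0, 0],
  [1, 1],
  [2, 2],
  [3, 3],
  [5, 5],
  [6, 7],
  [0, 6, 0, 7],
  [5, 6, 5, 7],
  [6, 6, 6, 6],
  [7, 1, 7, 1, 7, 1, 7, 1],
  [7, 7, 0, 1, 6, 0, 6, 1],
  [7, 3, 5, 6, 3, 7, 3, 6, 3],
  [7, 7, 2, 6, 6, 2],
  [7, 0, 2, 6, 2, 6, 2, 7, 2]]

theorem wordsK_range : inRange 8 wordsK.flatten = true := by decide +kernel

theorem wordsK_lt : ∀ w ∈ wordsK, ∀ y ∈ w, y < 8 :=
  fun w hw y hy => inRange_spec wordsK_range y (List.mem_flatten.mpr ⟨w, hw, hy⟩)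

theorem wordsK_fix : wordsK.all ONGroup.fixesThree = true := by decide +kernel

/-- The relations hold in the presented group. -/
theorem wordsK_ON : ∀ w ∈ wordsK, prodE ONGroup.let8 w = 1 :=
  fun w hw => ONGroup.word_one (List.all_eq_true.mp wordsK_fix w hw)

theorem prodE_toON {A : Type*} [Group A] (e : ℕ → A) :
    ∀ w : List ℕ, prodE (fun x => e (toON x)) w = prodE e (w.map toON)
  | [] => rfl
  | y :: w => by rw [List.map_cons, prodE, prodE, prodE_toON e w]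

end Cfsg.Agent.ONType.Side
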